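import Mathlib

/-!
A group generated by root subgroups with Weyl elements permuting them is covered by the double classes of
the Weyl elements, and the positive part is solvable.
-/

set_option autoImplicit false

open scoped commutatorElement

namespace Cfsg.Agent.CurtisTitsD.Bruhat

variable {K : Type*} [Group K]

/-- Conjugation of a subgroup. -/
def cj (g : K) (S : Subgroup K) : Subgroup K := S.map (MulAut.conj g).toMonoidHom

theorem mem_cj {g x : K} {S : Subgroup K} : x ∈ cj g S ↔ g⁻¹ * x * g ∈ S := by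
  constructor
  · rintro ⟨y, hy, rfl⟩
    simpa [MulAut.conj_apply, mul_assoc] using hy
  · exact fun h => ⟨_, h, by simp [MulAut.conj_apply, mul_assoc]⟩

theorem cj_one (S : Subgroup K) : cj 1 S = S := by ext x; simp [mem_cj]

theorem cj_mul (g h : K) (S : Subgroup K) : cj (g * h) S = cj g (cj h S) := by
  ext x; simp only [mem_cj, _root_.mul_inv_rev, mul_assoc]

theorem cj_inv {g : K} {S S' : Subgroup K} (h : cj g S = S') : cj g⁻¹ S' = S := by
  rw [← h, ← cj_mul, inv_mul_cancel, cj_one]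

theorem conj_mem_cj (g : K) {x : K} {S : Subgroup K} (hx : x ∈ S) : g * x * g⁻¹ ∈ cj g S :=
  mem_cj.2 (by simpa [mul_assoc] using hx)

theorem cj_commutator (g : K) (A B : Subgroup K) : cj g ⁅A, B⁆ = ⁅cj g A, cj g B⁆ :=
  Subgroup.map_commutator A B _

theorem cj_iSup {α : Sort*} (g : K) (S : α → Subgroup K) : cj g (⨆ i, S i) = ⨆ i, cj g (S i) :=
  Subgroup.map_iSup _ _

theorem cj_mono (g : K) {S S' : Subgroup K} (h : S ≤ S') : cj g S ≤ cj g S' := Subgroup.map_mono h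

/-- Commutators of generators in a subgroup they normalise. -/
theorem commutator_closure_le {s : Set K} {N : Subgroup K}
    (hn : ∀ a ∈ s, a ∈ Subgroup.normalizer (N : Set K)) (hc : ∀ a ∈ s, ∀ b ∈ s, ⁅a, b⁆ ∈ N) :
    ⁅Subgroup.closure s, Subgroup.closure s⁆ ≤ N := by
  have hle : Subgroup.closure s ≤ Subgroup.normalizer (N : Set K) := (Subgroup.closure_le _).2 hn
  have hconj : ∀ g ∈ Subgroup.closure s, ∀ x ∈ N, g * x * g⁻¹ ∈ N := fun g hg x hx =>
    (Subgroup.mem_normalizer_iff.1 (hle hg) x).1 hx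
  have h1 : ∀ a ∈ s, ∀ b ∈ Subgroup.closure s, ⁅a, b⁆ ∈ N := by
    intro a ha b hb
    induction hb using Subgroup.closure_induction with
    | mem b hb => exact hc a ha b hb
    | one => simp
    | mul x y hx _ ihx ihy =>
      rw [show ⁅a, x * y⁆ = ⁅a, x⁆ * (x * ⁅a, y⁆ * x⁻¹) by simp only [commutatorElement_def]; group]
      exact mul_mem ihx (hconj x hx _ ihy)
    | inv x hx ih =>
      rw [show ⁅a, x⁻¹⁆ = x⁻¹ * ⁅a, x⁆⁻¹ * x⁻¹⁻¹ by simp only [commutatorElement_def]; group]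
      exact hconj _ (inv_mem hx) _ (inv_mem ih)
  refine Subgroup.commutator_le.2 fun a ha b hb => ?_
  induction ha using Subgroup.closure_induction with
  | mem a ha => exact h1 a ha b hb
  | one => simp
  | mul x y hx _ ihx ihy =>
    rw [show ⁅x * y, b⁆ = (x * ⁅y, b⁆ * x⁻¹) * ⁅x, b⁆ by simp only [commutatorElement_def]; group]
    exact mul_mem (hconj x hx _ ihy) ihx
  | inv x hx ih =>
    rw [show ⁅x⁻¹, b⁆ = x⁻¹ * ⁅x, b⁆⁻¹ * x⁻¹⁻¹ by simp only [commutatorElement_def]; group]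
    exact hconj _ (inv_mem hx) _ (inv_mem ih)

/-- Root subgroups with Weyl elements. -/
structure Data (K : Type*) [Group K] (Φ I : Type*) where
  X : Φ → Subgroup K
  pos : Φ → Prop
  ht : Φ → ℕ
  a : I → Φ
  neg : Φ → Φ
  perm : I → Equiv.Perm Φ
  W : I → Set K
  bound : ℕ
  ht_le : ∀ r, ht r ≤ bound
  ht_pos : ∀ r, pos r → 0 < ht r
  neg_neg : ∀ r, neg (neg r) = r
  pos_neg : ∀ r, pos r → ¬ pos (neg r)
  total : ∀ r, X r = ⊥ ∨ pos r ∨ pos (neg r)
  a_pos : ∀ i, pos (a i)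
  w_inv : ∀ i, ∀ w ∈ W i, w⁻¹ ∈ W i
  w_ne : ∀ i, (W i).Nonempty
  w_conj : ∀ i, ∀ w ∈ W i, ∀ r, cj w (X r) = X (perm i r)
  perm_neg : ∀ i r, perm i (neg r) = neg (perm i r)
  perm_a : ∀ i, perm i (a i) = neg (a i)
  perm_pos : ∀ i r, pos r → r ≠ a i → pos (perm i r)
  comm : ∀ r s, pos r → pos s →
    ⁅X r, X s⁆ ≤ ⨆ (u : Φ) (_ : pos u) (_ : ht r + ht s ≤ ht u), X u
  rank_one : ∀ i, ∀ y ∈ X (neg (a i)), y ≠ 1 →
    ∃ x ∈ X (a i), ∃ w ∈ W i, ∃ x' ∈ X (a i), y = x * w * x'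

variable {Φ I : Type*} (D : Data K Φ I)

/-- The group generated by the Weyl elements. -/
def Data.N : Subgroup K := Subgroup.closure (⋃ i, D.W i)

/-- The positive roots from a height on. -/
def Data.Ux (h : ℕ) : Subgroup K := ⨆ (u : Φ) (_ : D.pos u) (_ : h ≤ D.ht u), D.X u

/-- The positive part. -/
def Data.U : Subgroup K := D.Ux 0

theorem le_Ux {r : Φ} (hr : D.pos r) {h : ℕ} (hh : h ≤ D.ht r) : D.X r ≤ D.Ux h :=
  le_iSup_of_le r (le_iSup_of_le hr (le_iSup_of_le hh le_rfl))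

theorem le_U {r : Φ} (hr : D.pos r) : D.X r ≤ D.U := le_Ux D hr (Nat.zero_le _)

theorem Ux_le {h : ℕ} {S : Subgroup K} (hS : ∀ r, D.pos r → h ≤ D.ht r → D.X r ≤ S) :
    D.Ux h ≤ S :=
  iSup_le fun r => iSup_le fun hr => iSup_le fun hh => hS r hr hh

theorem Ux_anti {h h' : ℕ} (hh : h ≤ h') : D.Ux h' ≤ D.Ux h :=
  Ux_le D fun _ hr hr' => le_Ux D hr (hh.trans hr')

theorem Ux_top {h : ℕ} (hh : D.bound < h) : D.Ux h = ⊥ :=
  le_bot_iff.1 (Ux_le D fun r _ hr => absurd (D.ht_le r) (by omega))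

theorem comm_Ux {r s : Φ} (hr : D.pos r) (hs : D.pos s) {x y : K} (hx : x ∈ D.X r) (hy : y ∈ D.X s) :
    ⁅x, y⁆ ∈ D.Ux (D.ht r + D.ht s) :=
  D.comm r s hr hs (Subgroup.commutator_mem_commutator hx hy)

/-- A union of positive roots closed upwards is normalised. -/
theorem normalises {r : Φ} (hr : D.pos r) (P : Φ → Prop)
    (hP : ∀ s, D.pos s → P s → ∀ u, D.pos u → D.ht r + D.ht s ≤ D.ht u → P u) :
    D.X r ≤ Subgroup.normalizer ((⨆ (u : Φ) (_ : D.pos u) (_ : P u), D.X u : Subgroup K) : Set K) := by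
  obtain ⟨V, hV⟩ : ∃ V, V = ⨆ (u : Φ) (_ : D.pos u) (_ : P u), D.X u := ⟨_, rfl⟩
  rw [← hV]
  have hle : ∀ x ∈ D.X r, V ≤ V.comap (MulAut.conj x).toMonoidHom := fun x hx => by
    conv_lhs => rw [hV]
    refine iSup_le fun s => iSup_le fun hs => iSup_le fun hPs y hy => ?_
    show x * y * x⁻¹ ∈ V
    rw [show x * y * x⁻¹ = ⁅x, y⁆ * y by simp only [commutatorElement_def]; group]
    refine mul_mem ?_ (hV ▸ Subgroup.mem_iSup_of_mem s (Subgroup.mem_iSup_of_mem hs
      (Subgroup.mem_iSup_of_mem hPs hy)))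
    refine Ux_le D (fun u hu hh => ?_) (comm_Ux D hr hs hx hy)
    rw [hV]
    exact le_iSup_of_le u (le_iSup_of_le hu (le_iSup_of_le (hP s hs hPs u hu hh) le_rfl))
  intro x hx
  refine Subgroup.mem_normalizer_iff.2 fun y => ⟨fun hy => hle x hx hy, fun hy => ?_⟩
  have := hle x⁻¹ (inv_mem hx) hy
  simpa [mul_assoc] using this

theorem commutator_Ux (h : ℕ) : ⁅D.Ux h, D.Ux h⁆ ≤ D.Ux (h + 1) := by
  have e : D.Ux h = Subgroup.closure {x | ∃ r, D.pos r ∧ h ≤ D.ht r ∧ x ∈ D.X r} := by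
    refine le_antisymm (Ux_le D fun r hr hh x hx => Subgroup.subset_closure ⟨r, hr, hh, hx⟩)
      ((Subgroup.closure_le _).2 ?_)
    rintro x ⟨r, hr, hh, hx⟩
    exact le_Ux D hr hh hx
  conv_lhs => rw [e]
  refine commutator_closure_le ?_ ?_
  · rintro x ⟨r, hr, hh, hx⟩
    exact normalises D hr (fun u => h + 1 ≤ D.ht u) (fun s _ hs u _ hu => by omega) hx
  · rintro x ⟨r, hr, hh, hx⟩ y ⟨s, hs, hh', hy⟩
    have := D.ht_pos r hr
    exact Ux_anti D (by omega) (comm_Ux D hr hs hx hy)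

/-- A homomorphism carrying the positive part onto the whole group has soluble target. -/
theorem derived_eq_bot {G : Type*} [Group G] (f : K →* G) (hf : D.U.map f = ⊤) :
    derivedSeries G (D.bound + 1) = ⊥ := by
  have h : ∀ k, derivedSeries G k ≤ (D.Ux k).map f := by
    intro k
    induction k with
    | zero => rw [derivedSeries_zero]; exact hf.ge
    | succ k ih =>
      rw [derivedSeries_succ]
      refine (Subgroup.commutator_mono ih ih).trans ?_
      rw [← Subgroup.map_commutator]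
      exact Subgroup.map_mono (commutator_Ux D k)
  have := h (D.bound + 1)
  rwa [Ux_top D (Nat.lt_succ_self _), Subgroup.map_bot, le_bot_iff] at this

/-- Every Weyl element permutes the root subgroups. -/
theorem exists_perm {g : K} (hg : g ∈ D.N) : ∃ ρ : Equiv.Perm Φ,
    (∀ r, ρ (D.neg r) = D.neg (ρ r)) ∧ ∀ r, cj g (D.X r) = D.X (ρ r) := by
  induction hg using Subgroup.closure_induction with
  | mem w hw =>
    obtain ⟨i, hi⟩ := Set.mem_iUnion.1 hw
    exact ⟨D.perm i, D.perm_neg i, D.w_conj i w hi⟩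
  | one => exact ⟨1, fun _ => rfl, fun r => by rw [cj_one]; rfl⟩
  | mul x y _ _ hx hy =>
    obtain ⟨ρ, h1, h2⟩ := hx
    obtain ⟨ρ', h1', h2'⟩ := hy
    exact ⟨ρ * ρ', fun r => by simp [h1', h1], fun r => by rw [cj_mul, h2', h2]; rfl⟩
  | inv x _ hx =>
    obtain ⟨ρ, h1, h2⟩ := hx
    refine ⟨ρ⁻¹, fun r => ρ.injective ?_, fun r => cj_inv ?_⟩
    · rw [h1]; simp
    · rw [h2]; simp

/-- The double classes of the Weyl elements. -/
def Data.cells : Set K := {k | ∃ u ∈ D.U, ∃ g ∈ D.N, ∃ v ∈ D.U, k = u * g * v}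

theorem U_mul_cells {u k : K} (hu : u ∈ D.U) (hk : k ∈ D.cells) : u * k ∈ D.cells := by
  obtain ⟨u', hu', g, hg, v, hv, rfl⟩ := hk
  exact ⟨u * u', mul_mem hu hu', g, hg, v, hv, by group⟩

theorem W_mul_cells {i : I} {w k : K} (hw : w ∈ D.W i) (hk : k ∈ D.cells) : w * k ∈ D.cells := by
  obtain ⟨u, hu, g, hg, v, hv, rfl⟩ := hk
  obtain ⟨V, hV⟩ : ∃ V, V = ⨆ (r : Φ) (_ : D.pos r) (_ : r ≠ D.a i), D.X r := ⟨_, rfl⟩
  have hn : D.X (D.a i) ≤ Subgroup.normalizer (V : Set K) := by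
    rw [hV]
    exact normalises D (D.a_pos i) (fun r => r ≠ D.a i) fun s hs _ r _ hh e => by
      subst e; have := D.ht_pos s hs; omega
  have hVU : V ≤ D.U := hV ▸ iSup_le fun r => iSup_le fun hr => iSup_le fun _ => le_U D hr
  have hsup : D.U ≤ V ⊔ D.X (D.a i) := Ux_le D fun r hr _ => by
    by_cases e : r = D.a i
    · exact e ▸ le_sup_right
    · exact le_sup_of_le_left (hV ▸ le_iSup_of_le r (le_iSup_of_le hr (le_iSup_of_le e le_rfl)))
  obtain ⟨u', hu', x, hx, rfl⟩ : ∃ u' ∈ V, ∃ x ∈ D.X (D.a i), u' * x = u := by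
    have h1 := hsup hu
    rw [← SetLike.mem_coe, Subgroup.coe_mul_of_right_le_normalizer_left V (D.X (D.a i)) hn] at h1
    exact h1
  have hwV : w * u' * w⁻¹ ∈ D.U := by
    refine (show cj w V ≤ D.U from ?_) (conj_mem_cj w hu')
    rw [hV, cj_iSup]
    refine iSup_le fun r => ?_
    rw [cj_iSup]
    refine iSup_le fun hr => ?_
    rw [cj_iSup]
    refine iSup_le fun hne => ?_
    rw [D.w_conj i w hw]
    exact le_U D (D.perm_pos i r hr hne)
  have hwN : w ∈ D.N := Subgroup.subset_closure (Set.mem_iUnion.2 ⟨i, hw⟩)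
  rw [show w * (u' * x * g * v) = (w * u' * w⁻¹) * (w * x * g * v) by group]
  refine U_mul_cells D hwV ?_
  obtain ⟨ρ, hρn, hρ⟩ := exists_perm D hg
  have hgx : g⁻¹ * x * g ∈ D.X (ρ.symm (D.a i)) := by
    rw [← mem_cj, hρ, Equiv.apply_symm_apply]; exact hx
  have hfirst : g⁻¹ * x * g ∈ D.U → w * x * g * v ∈ D.cells := fun h =>
    ⟨1, one_mem _, w * g, mul_mem hwN hg, g⁻¹ * x * g * v, mul_mem h hv, by group⟩
  rcases D.total (ρ.symm (D.a i)) with h | h | h
  · rw [h, Subgroup.mem_bot] at hgx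
    exact hfirst (by rw [hgx]; exact one_mem _)
  · exact hfirst (le_U D h hgx)
  have hy : w * x * w⁻¹ ∈ D.X (D.neg (D.a i)) := by
    rw [← D.perm_a i, ← D.w_conj i w hw]; exact conj_mem_cj w hx
  rw [show w * x * g * v = (w * x * w⁻¹) * (w * g) * v by group]
  by_cases hy1 : w * x * w⁻¹ = 1
  · exact ⟨1, one_mem _, w * g, mul_mem hwN hg, v, hv, by rw [hy1]⟩
  obtain ⟨x1, hx1, w', hw', x2, hx2, e⟩ := D.rank_one i _ hy hy1
  have hx2' : (w * g)⁻¹ * x2 * (w * g) ∈ D.U := by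
    refine le_U D h ?_
    rw [← mem_cj, cj_mul, hρ, D.w_conj i w hw, hρn, Equiv.apply_symm_apply, D.perm_neg, D.perm_a,
      D.neg_neg]
    exact hx2
  refine ⟨x1, le_U D (D.a_pos i) hx1, w' * (w * g),
    mul_mem (Subgroup.subset_closure (Set.mem_iUnion.2 ⟨i, hw'⟩)) (mul_mem hwN hg),
    (w * g)⁻¹ * x2 * (w * g) * v, mul_mem hx2' hv, ?_⟩
  rw [e]; group

/-- The group generated by the simple root subgroups and their negatives lies in the double classes. -/
theorem mem_cells {k : K} (hk : k ∈ ⨆ i, (D.X (D.a i) ⊔ D.X (D.neg (D.a i)))) : k ∈ D.cells := by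
  have hle : (⨆ i, (D.X (D.a i) ⊔ D.X (D.neg (D.a i)))) ≤ D.U ⊔ D.N := iSup_le fun i => by
    refine sup_le (le_sup_of_le_left (le_U D (D.a_pos i))) fun y hy => ?_
    obtain ⟨w, hw⟩ := D.w_ne i
    rw [← D.perm_a i, ← D.w_conj i w hw, mem_cj] at hy
    have hwm : w ∈ D.U ⊔ D.N := Subgroup.mem_sup_right (Subgroup.subset_closure (Set.mem_iUnion.2 ⟨i, hw⟩))
    have := mul_mem (mul_mem hwm (Subgroup.mem_sup_left (le_U D (D.a_pos i) hy))) (inv_mem hwm)
    rwa [show w * (w⁻¹ * y * w) * w⁻¹ = y by group] at this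
  have hk' := hle hk
  have e : D.U ⊔ D.N = Subgroup.closure ((D.U : Set K) ∪ ⋃ i, D.W i) := by
    rw [Subgroup.closure_union, Subgroup.closure_eq]; rfl
  rw [e] at hk'
  clear hk hle
  induction hk' using Subgroup.closure_induction_left with
  | one => exact ⟨1, one_mem _, 1, one_mem _, 1, one_mem _, by group⟩
  | mul_left x hx y _ ih =>
    rcases hx with hx | hx
    · exact U_mul_cells D hx ih
    · obtain ⟨i, hi⟩ := Set.mem_iUnion.1 hx
      exact W_mul_cells D hi ih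
  | inv_mul_cancel x hx y _ ih =>
    rcases hx with hx | hx
    · exact U_mul_cells D (inv_mem hx) ih
    · obtain ⟨i, hi⟩ := Set.mem_iUnion.1 hx
      exact W_mul_cells D (D.w_inv i x hi) ih

/-- An element with trivial image normalises the positive part. -/
theorem ker_normalises {E : Type*} [Group E] (p : K →* E)
    (hdet : ∀ g ∈ D.N, p g ∈ D.U.map p → ∀ r, cj g (D.X r) = D.X r)
    {k : K} (hk : k ∈ ⨆ i, (D.X (D.a i) ⊔ D.X (D.neg (D.a i)))) (hpk : p k = 1) :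
    k ∈ Subgroup.normalizer (D.U : Set K) := by
  obtain ⟨u, hu, g, hg, v, hv, rfl⟩ := mem_cells D hk
  rw [map_mul, map_mul] at hpk
  have hpg : p g ∈ D.U.map p := by
    refine ⟨u⁻¹ * v⁻¹, mul_mem (inv_mem hu) (inv_mem hv), ?_⟩
    rw [map_mul, map_inv, map_inv]
    calc (p u)⁻¹ * (p v)⁻¹ = (p u)⁻¹ * (p u * p g * p v) * (p v)⁻¹ := by rw [hpk]; group
      _ = p g := by group
  have hfix : cj g D.U = D.U := by
    simp only [Data.U, Data.Ux, cj_iSup, hdet g hg hpg]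
  have hgn : g ∈ Subgroup.normalizer (D.U : Set K) := Subgroup.mem_normalizer_iff.2 fun y => by
    conv_rhs => rw [← hfix, mem_cj]
    simp [mul_assoc]
  exact mul_mem (mul_mem (Subgroup.le_normalizer hu) hgn) (Subgroup.le_normalizer hv)

end Cfsg.Agent.CurtisTitsD.Bruhat
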