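import Cfsg.Agent.Lib.CurtisTitsD.Roots

/-!
The root datum of type `D` carried by a twin of homomorphisms.
-/

set_option autoImplicit false
set_option linter.unusedSectionVars false

namespace Cfsg.Agent.CurtisTitsD

open Matrix Cfsg.Agent.SimpleFacts.SLnRootLifts Cfsg.Agent.CurtisTitsD.Bruhat
open scoped commutatorElement

variable {n : ℕ}

local notation "Ix" => (Fin n ⊕ Fin n)

/-- The height of a signed index. -/
def hgt : Fin n ⊕ Fin n → ℤ
  | Sum.inl i => (n : ℤ) - i.val
  | Sum.inr i => -((n : ℤ) - i.val)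

theorem hgt_swap (a : Ix) : hgt (Sum.swap a) = -hgt a := by
  rcases a with i | i <;> simp [hgt]

theorem hgt_injective : Function.Injective (hgt (n := n)) := by
  rintro (i | i) (j | j) h <;> simp only [hgt] at h <;> have := i.2 <;> have := j.2
  · rw [Fin.ext (show i.val = j.val by omega)]
  · omega
  · omega
  · rw [Fin.ext (show i.val = j.val by omega)]

/-- A positive root as a pair. -/
def IsPos (a b : Fin n ⊕ Fin n) : Prop := a ≠ b ∧ a ≠ Sum.swap b ∧ 0 < hgt a + hgt b

theorem isPos_comm (a b : Ix) : IsPos a b ↔ IsPos b a := by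
  have h : ∀ a b : Ix, IsPos a b → IsPos b a := fun a b ⟨h1, h2, h3⟩ =>
    ⟨h1.symm, fun e => h2 (by rw [e, Sum.swap_swap]), by omega⟩
  exact ⟨h a b, h b a⟩

variable {F : Type*} [Field F] [Finite F] {K : Type*} [Group K] (P : Twin n F K)

/-- The root subgroup of an unordered pair. -/
def Xs : Sym2 (Fin n ⊕ Fin n) → Subgroup K := Sym2.lift ⟨X P, X_symm P⟩

/-- Positivity of an unordered pair. -/
def posS : Sym2 (Fin n ⊕ Fin n) → Prop :=
  Sym2.lift ⟨IsPos, fun a b => propext (isPos_comm a b)⟩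

/-- The height of an unordered pair. -/
def htS : Sym2 (Fin n ⊕ Fin n) → ℕ :=
  Sym2.lift ⟨fun a b => (hgt a + hgt b).toNat, fun a b => by show (hgt a + hgt b).toNat = _; rw [add_comm]⟩

/-- The permutation of unordered pairs. -/
def mapPerm (π : Equiv.Perm (Fin n ⊕ Fin n)) : Equiv.Perm (Sym2 (Fin n ⊕ Fin n)) where
  toFun := Sym2.map π
  invFun := Sym2.map π.symm
  left_inv z := by simp [Sym2.map_map]
  right_inv z := by simp [Sym2.map_map]

/-- The successor of an index other than `d`. -/
def nx (hd : P.d.val + 1 = n) (i : {i : Fin n // i ≠ P.d}) : Fin n :=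
  ⟨i.1.val + 1, by have := i.1.2; have := Fin.val_ne_of_ne i.2; omega⟩

theorem nx_ne (hd : P.d.val + 1 = n) (i : {i : Fin n // i ≠ P.d}) : i.1 ≠ nx P hd i :=
  fun e => by have := congrArg Fin.val e; simp [nx] at this

theorem rank_one_T (f : SpecialLinearGroup (Fin n) F →* K) {x y : Fin n} (hxy : x ≠ y) {z : K}
    (hz : z ∈ R f y x) (hz1 : z ≠ 1) :
    ∃ a ∈ R f x y, ∃ w, (∃ t : F, t ≠ 0 ∧ w = f (wS x y t)) ∧ ∃ b ∈ R f x y, z = a * w * b := by
  obtain ⟨t, rfl⟩ := mem_R hz
  have ht : t ≠ 0 := fun e => hz1 (by rw [e, T_zero, map_one])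
  refine ⟨_, mem_R_of f x y t⁻¹, _, ⟨-t⁻¹, neg_ne_zero.2 (inv_ne_zero ht), rfl⟩, _, mem_R_of f x y t⁻¹, ?_⟩
  rw [← map_mul, ← map_mul, wS, inv_neg, inv_inv, neg_neg]
  congr 1
  rw [show T x y t⁻¹ * (T x y (-t⁻¹) * T y x t * T x y (-t⁻¹)) * T x y t⁻¹ =
    (T x y t⁻¹ * T x y (-t⁻¹)) * T y x t * (T x y (-t⁻¹) * T x y t⁻¹) by group,
    ← T_add hxy, ← T_add hxy, add_neg_cancel, neg_add_cancel, T_zero, one_mul, mul_one]

/-- The Weyl permutation of a node. -/
def nodePerm (hd : P.d.val + 1 = n) : Option {i : Fin n // i ≠ P.d} → Equiv.Perm (Fin n ⊕ Fin n)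
  | some i => sw2 i.1 (nx P hd i)
  | none => tau P * sw2 P.c P.d * tau P

theorem nodePerm_swap (hd : P.d.val + 1 = n) (o : Option {i : Fin n // i ≠ P.d}) (a : Ix) :
    nodePerm P hd o (Sum.swap a) = Sum.swap (nodePerm P hd o a) := by
  cases o with
  | some i => exact (acts_one P (nx_ne P hd i) (one_ne_zero (α := F))).1 a
  | none => exact (acts_two P P.hcd (one_ne_zero (α := F))).1 a

/-- The simple root of a node. -/
def nodeRoot (hd : P.d.val + 1 = n) : Option {i : Fin n // i ≠ P.d} → Sym2 (Fin n ⊕ Fin n)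
  | some i => s(Sum.inl i.1, Sum.inr (nx P hd i))
  | none => s(Sum.inl P.c, Sum.inl P.d)

/-- The Weyl elements of a node. -/
def nodeW (hd : P.d.val + 1 = n) : Option {i : Fin n // i ≠ P.d} → Set K
  | some i => {w | ∃ t : F, t ≠ 0 ∧ w = P.F1 (wS i.1 (nx P hd i) t)}
  | none => {w | ∃ t : F, t ≠ 0 ∧ w = P.F2 (wS P.c P.d t)}

theorem perm_pos_some {x y : Fin n} (hxy : y.val = x.val + 1) {a b : Ix} (h : IsPos a b)
    (hne : s(a, b) ≠ s(Sum.inl x, Sum.inr y)) : IsPos (sw2 x y a) (sw2 x y b) := by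
  obtain ⟨h1, h2, h3⟩ := h
  have hsw : ∀ u, sw2 x y (Sum.swap u) = Sum.swap (sw2 x y u) := fun u => by rcases u with i | i <;> rfl
  refine ⟨(sw2 x y).injective.ne h1, fun e => h2 ((sw2 x y).injective (by rw [hsw, ← e])), ?_⟩
  rw [ne_eq, Sym2.eq_iff] at hne
  rcases a with i | i <;> rcases b with j | j
  all_goals simp only [sw2, Equiv.sumCongr_apply, Sum.map_inl, Sum.map_inr, Equiv.swap_apply_def,
    Sum.inl.injEq, Sum.inr.injEq, reduceCtorEq, false_and, and_false, or_false, false_or,
    ne_eq, Sum.swap_inl, Sum.swap_inr, hgt, Fin.ext_iff] at *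
  all_goals have := i.2
  all_goals have := j.2
  all_goals split_ifs <;> omega

theorem perm_pos_none (hd : P.d.val + 1 = n) (hc : P.c.val + 2 = n) {a b : Ix} (h : IsPos a b)
    (hne : s(a, b) ≠ s(Sum.inl P.c, Sum.inl P.d)) :
    IsPos (nodePerm P hd none a) (nodePerm P hd none b) := by
  obtain ⟨h1, h2, h3⟩ := h
  refine ⟨(nodePerm P hd none).injective.ne h1, fun e => h2 ((nodePerm P hd none).injective (by
    rw [nodePerm_swap, ← e])), ?_⟩
  rw [ne_eq, Sym2.eq_iff] at hne
  have hcd' : P.c.val ≠ P.d.val := by omega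
  have ec : ∀ k : Fin n, nodePerm P hd none (Sum.inl k) =
      if k = P.c then Sum.inr P.d else if k = P.d then Sum.inr P.c else Sum.inl k := fun k => by
    by_cases k1 : k = P.c
    · subst k1; simp [nodePerm, sw2, tau_inl_d, tau_inl P P.hcd]
    by_cases k2 : k = P.d
    · subst k2; simp [nodePerm, sw2, tau_inl_d, tau_inr P P.hcd, P.hcd.symm]
    · simp [nodePerm, sw2, tau_inl P k2, Equiv.swap_apply_of_ne_of_ne k1 k2, k1, k2]
  have ec' : ∀ k : Fin n, nodePerm P hd none (Sum.inr k) =
      if k = P.c then Sum.inl P.d else if k = P.d then Sum.inl P.c else Sum.inr k := fun k => by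
    have := nodePerm_swap P hd none (Sum.inl k)
    rw [ec, Sum.swap_inl] at this
    rw [this]
    split_ifs <;> rfl
  rcases a with i | i <;> rcases b with j | j
  all_goals simp only [ec, ec', Sum.inl.injEq, Sum.inr.injEq, reduceCtorEq, false_and, and_false, or_false,
    ne_eq, Sum.swap_inl, Sum.swap_inr, hgt, Fin.ext_iff] at *
  all_goals have := i.2
  all_goals have := j.2
  all_goals split_ifs <;> simp only [hgt] <;> omega

/-- The datum. -/
noncomputable def datum (h3 : 3 ≤ n) (hd : P.d.val + 1 = n) (hc : P.c.val + 2 = n) :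
    Data K (Sym2 (Fin n ⊕ Fin n)) (Option {i : Fin n // i ≠ P.d}) where
  X := Xs P
  pos := posS
  ht := htS
  a := nodeRoot P hd
  neg := Sym2.map Sum.swap
  perm o := mapPerm (nodePerm P hd o)
  W := nodeW P hd
  bound := 2 * n
  ht_le r := by
    induction r using Sym2.ind with
    | _ a b =>
      show (hgt a + hgt b).toNat ≤ 2 * n
      have key : ∀ u : Ix, hgt u ≤ (n : ℤ) := fun u => by
        rcases u with i | i <;> simp only [hgt] <;> have := i.2 <;> omega
      have := key a
      have := key b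
      omega
  ht_pos r hr := by
    induction r using Sym2.ind with
    | _ a b =>
      show 0 < (hgt a + hgt b).toNat
      have h : 0 < hgt a + hgt b := hr.2.2
      omega
  neg_neg r := by simp [Sym2.map_map]
  pos_neg r hr hr' := by
    induction r using Sym2.ind with
    | _ a b =>
      have h : 0 < hgt a + hgt b := hr.2.2
      have h' : 0 < hgt (Sum.swap a) + hgt (Sum.swap b) := hr'.2.2
      rw [hgt_swap, hgt_swap] at h'
      omega
  total r := by
    induction r using Sym2.ind with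
    | _ a b =>
      show X P a b = ⊥ ∨ IsPos a b ∨ IsPos (Sum.swap a) (Sum.swap b)
      by_cases h1 : a = b
      · exact Or.inl (by rw [h1, X_self])
      by_cases h2 : a = Sum.swap b
      · exact Or.inl (by rw [X_symm, h2, X_opp])
      have h2' : Sum.swap a ≠ b := fun e => h2 (by rw [← e, Sum.swap_swap])
      have hne : hgt a + hgt b ≠ 0 := fun e => h2 (hgt_injective (by rw [hgt_swap]; omega))
      refine Or.inr ((lt_or_gt_of_ne hne).elim (fun h => Or.inr ⟨?_, ?_, ?_⟩) fun h => Or.inl ⟨h1, h2, h⟩)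
      · exact fun e => h1 (by simpa using congrArg Sum.swap e)
      · rwa [Sum.swap_swap]
      · rw [hgt_swap, hgt_swap]; omega
  a_pos o := by
    cases o with
    | some i =>
      refine ⟨by simp, fun e => ?_, ?_⟩
      · exact nx_ne P hd i (Sum.inl.inj e)
      · show 0 < hgt (Sum.inl i.1) + hgt (Sum.inr (nx P hd i))
        simp [hgt, nx]
    | none =>
      refine ⟨fun e => P.hcd (Sum.inl.inj e), by simp, ?_⟩
      show 0 < hgt (Sum.inl P.c) + hgt (Sum.inl P.d)
      simp only [hgt]
      omega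
  w_inv o w hw := by
    cases o with
    | some i =>
      obtain ⟨t, ht, rfl⟩ := hw
      exact ⟨-t, neg_ne_zero.2 ht, by rw [← map_inv, wS_inv (nx_ne P hd i)]⟩
    | none =>
      obtain ⟨t, ht, rfl⟩ := hw
      exact ⟨-t, neg_ne_zero.2 ht, by rw [← map_inv, wS_inv P.hcd]⟩
  w_ne o := by cases o <;> exact ⟨_, 1, one_ne_zero, rfl⟩
  w_conj o w hw r := by
    induction r using Sym2.ind with
    | _ a b =>
      cases o with
      | some i =>
        obtain ⟨t, ht, rfl⟩ := hw
        exact (acts_one P (nx_ne P hd i) ht).2 a b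
      | none =>
        obtain ⟨t, ht, rfl⟩ := hw
        exact (acts_two P P.hcd ht).2 a b
  perm_neg o r := by
    induction r using Sym2.ind with
    | _ a b =>
      show s(nodePerm P hd o (Sum.swap a), nodePerm P hd o (Sum.swap b)) = _
      rw [nodePerm_swap, nodePerm_swap]
      rfl
  perm_a o := by
    cases o with
    | some i =>
      show s(sw2 i.1 (nx P hd i) (Sum.inl i.1), sw2 i.1 (nx P hd i) (Sum.inr (nx P hd i))) =
        s(Sum.swap (Sum.inl i.1), Sum.swap (Sum.inr (nx P hd i)))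
      simp [sw2, Sym2.eq_swap]
    | none =>
      show s(nodePerm P hd none (Sum.inl P.c), nodePerm P hd none (Sum.inl P.d)) =
        s(Sum.swap (Sum.inl P.c), Sum.swap (Sum.inl P.d))
      simp [nodePerm, sw2, tau_inl P P.hcd, tau_inl_d, tau_inr P P.hcd, Sym2.eq_swap]
  perm_pos o r hr hne := by
    induction r using Sym2.ind with
    | _ a b =>
      cases o with
      | some i => exact perm_pos_some (by simp [nx]) hr hne
      | none => exact perm_pos_none P hd hc hr hne
  comm r s hr hs := by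
    induction r using Sym2.ind with
    | _ a b =>
    induction s using Sym2.ind with
    | _ c e =>
      have hp : 0 < hgt a + hgt b := hr.2.2
      have hp' : 0 < hgt c + hgt e := hs.2.2
      refine (good P h3 (a := a) (b := b) (c := c) (e := e) (fun h => ?_) hgt hgt_swap).trans (iSup_le fun u => iSup_le fun v => iSup_le fun huv => ?_)
      · rcases h with ⟨h1, h2⟩ | ⟨h1, h2⟩ <;> rw [h1, h2, hgt_swap, hgt_swap] at hp' <;> omega
      · by_cases h1 : u = v
        · rw [h1, X_self]; exact bot_le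
        by_cases h2 : u = Sum.swap v
        · rw [X_symm, h2, X_opp]; exact bot_le
        refine le_iSup_of_le s(u, v) (le_iSup_of_le ⟨h1, h2, (by show 0 < hgt u + hgt v; omega : 0 < hgt u + hgt v)⟩ (le_iSup_of_le ?_ le_rfl))
        show (hgt a + hgt b).toNat + (hgt c + hgt e).toNat ≤ (hgt u + hgt v).toNat
        omega
  rank_one o y hy hy1 := by
    cases o with
    | some i => exact rank_one_T P.F1 (nx_ne P hd i) hy hy1
    | none =>
      have e : X P (Sum.inl P.c) (Sum.inl P.d) = R P.F2 P.c P.d := Zf_d P true P.hcd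
      have e' : X P (Sum.inr P.c) (Sum.inr P.d) = R P.F2 P.d P.c := Zf_d P false P.hcd
      have hy' : y ∈ X P (Sum.inr P.c) (Sum.inr P.d) := hy
      rw [e'] at hy'
      obtain ⟨x, hx, w, hw, x', hx', h⟩ := rank_one_T P.F2 P.hcd hy' hy1
      exact ⟨x, e.ge hx, w, hw, x', e.ge hx', h⟩

end Cfsg.Agent.CurtisTitsD
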