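import Cfsg.Agent.Lib.CurtisTitsD.Datum
import Cfsg.Agent.Lib.Chevalley.Natural.SplitOmega
import Cfsg.Agent.Lib.Classical.OmegaPlus

/-!
A twin lying over the Levi embeddings of `SL_n` into the plus type orthogonal group: the root subgroups go
onto the root elements, and the image is the derived group.
-/

set_option autoImplicit false
set_option linter.unusedSectionVars false

open scoped Matrix

namespace Cfsg.Agent.CurtisTitsD

open Matrix Cfsg.Agent.SimpleFacts.SLnRootLifts Cfsg.Agent.SimpleFacts.SLnSystem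
  Cfsg.Agent.SimpleFacts.SLnCosets Cfsg.Agent.SteinbergSL Cfsg.Agent.CurtisTitsD.Bruhat
  Cfsg.Agent.Forms Cfsg.Agent.Forms.Reflections Cfsg.Agent.Forms.PlusStd
  Cfsg.Agent.Classical.Orth Cfsg.Agent.Chevalley.Natural
open scoped commutatorElement

variable {m : ℕ} {F : Type*} [Field F] [Finite F]

local notation "Ix" => (Fin m ⊕ Fin m)

/-- The isometry group of the plus form. -/
noncomputable abbrev Oplus (m : ℕ) (F : Type*) [Field F] :=
  Cfsg.isometryGroup F ⇑(plusQ F m)

local notation "Iso" => Oplus m F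

theorem split (m : ℕ) (F : Type*) [Field F] :
    Split (plusQ F m) Sum.swap (fun _ : Fin m ⊕ Fin m => 0) where
  op_op a := by rcases a with i | i <;> rfl
  q01 _ := Or.inl rfl
  op_fix a := by rcases a with i | i <;> simp
  uniq a b h := by simp at h
  hQ a := by
    rcases a with i | i <;> simp [plusQ_apply, Cfsg.quadFormPlus, Pi.single_apply]
  hB a b := by
    rw [plusQ_polar]
    rcases a with i | i <;> rcases b with j | j <;> simp [Pi.single_apply]

/-- The Levi embedding. -/
noncomputable def lev (m : ℕ) (F : Type*) [Field F] : SpecialLinearGroup (Fin m) F →* Oplus m F :=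
  (Classical.OmegaPlus.leviIso (F := F) (m := m)).comp SpecialLinearGroup.toGL

theorem coe_inv_toGL (A : SpecialLinearGroup (Fin m) F) :
    (((SpecialLinearGroup.toGL A : GL (Fin m) F) : Matrix (Fin m) (Fin m) F))⁻¹ =
      ((A⁻¹ : SpecialLinearGroup (Fin m) F) : Matrix (Fin m) (Fin m) F) := by
  refine Matrix.inv_eq_right_inv ?_
  rw [SpecialLinearGroup.coe_GL_coe_matrix]
  exact congrArg Subtype.val (mul_inv_cancel A)

theorem lev_inl (A : SpecialLinearGroup (Fin m) F) (k : Fin m) (z : Ix) :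
    act (lev m F A) (bv (Sum.inl k)) z =
      Sum.elim (fun i => (A : Matrix (Fin m) (Fin m) F) i k) (fun _ => 0) z := by
  rw [lev, MonoidHom.comp_apply, Classical.OmegaPlus.act_levi]
  rcases z with i | i
  · simp [SpecialLinearGroup.coe_GL_coe_matrix, Matrix.mulVec, dotProduct, bv, Pi.single_apply]
  · simp [Matrix.mulVec, dotProduct, bv]

theorem lev_inr (A : SpecialLinearGroup (Fin m) F) (k : Fin m) (z : Ix) :
    act (lev m F A) (bv (Sum.inr k)) z =
      Sum.elim (fun _ => 0)
        (fun i => ((A⁻¹ : SpecialLinearGroup (Fin m) F) : Matrix (Fin m) (Fin m) F) k i) z := by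
  rw [lev, MonoidHom.comp_apply, Classical.OmegaPlus.act_levi, coe_inv_toGL]
  rcases z with i | i
  · simp [Matrix.mulVec, dotProduct, bv]
  · simp [Matrix.mulVec, dotProduct, bv, Pi.single_apply, Matrix.transpose_apply]

/-- A root subgroup of the isometry group. -/
noncomputable def Elr (a b : Fin m ⊕ Fin m) : Subgroup (Oplus m F) :=
  Subgroup.closure (Set.range fun t : F => el (split m F) a b t)

theorem act_el {a b : Ix} (hb : b ≠ Sum.swap a) (t : F) (x : Ix → F) :
    act (el (split m F) a b t) x = x + (t * x (Sum.swap a)) • bv b - (t * x (Sum.swap b)) • bv a := by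
  rw [(split m F).el_eq rfl hb, act_eich, QuadraticMap.map_smul, (split m F).Q_bv rfl,
    QuadraticMap.polar_smul_right, (split m F).B_sing _ rfl, (split m F).B_sing _ rfl]
  simp only [smul_eq_mul, mul_zero, zero_mul, zero_smul, sub_zero, smul_smul, mul_comm (x (Sum.swap a))]

theorem el_swap {a b : Ix} (hb : b ≠ Sum.swap a) (t : F) :
    el (split m F) b a t = el (split m F) a b (-t) := by
  have ha : a ≠ Sum.swap b := fun e => hb (by rw [e, Sum.swap_swap])
  refine act_ext fun x => ?_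
  rw [act_el ha, act_el hb]
  match_scalars <;> ring

theorem el_degenerate {a b : Ix} (h : a = b ∨ b = Sum.swap a) (t : F) :
    el (split m F) a b t = (1 : Iso) := by
  by_cases hb : b = Sum.swap a
  · rw [el, dif_neg fun hh => hh.2 hb]
  obtain rfl := h.resolve_right hb
  refine act_ext fun x => ?_
  rw [act_el hb, act_one]
  match_scalars <;> ring

theorem Elr_comm (a b : Ix) : (Elr a b : Subgroup Iso) = Elr b a := by
  have key : ∀ a b : Ix, (Elr a b : Subgroup Iso) ≤ Elr b a := fun a b =>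
    (Subgroup.closure_le _).2 <| by
      rintro _ ⟨t, rfl⟩
      by_cases h : a = b ∨ b = Sum.swap a
      · simp only [el_degenerate h, SetLike.mem_coe, one_mem]
      · push Not at h
        have ha : a ≠ Sum.swap b := fun e => h.2 (by rw [e, Sum.swap_swap])
        exact Subgroup.subset_closure ⟨-t, (el_swap ha t).symm⟩
  exact le_antisymm (key a b) (key b a)

/-- The basis vectors are permuted by `π` up to scalars. -/
def MP (g : Oplus m F) (π : Equiv.Perm (Fin m ⊕ Fin m)) : Prop :=
  (∀ a, π (Sum.swap a) = Sum.swap (π a)) ∧ ∀ k, ∃ s : F, s ≠ 0 ∧ act g (bv k) = s • bv (π k)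

theorem MP.one : MP (1 : Iso) 1 :=
  ⟨fun _ => rfl, fun k => ⟨1, one_ne_zero, by rw [act_one, one_smul]; rfl⟩⟩

theorem MP.mul {g g' : Iso} {π π' : Equiv.Perm Ix} (h : MP g π) (h' : MP g' π') :
    MP (g * g') (π * π') := by
  refine ⟨fun a => by simp [h'.1, h.1], fun k => ?_⟩
  obtain ⟨s, hs, e⟩ := h'.2 k
  obtain ⟨s', hs', e'⟩ := h.2 (π' k)
  exact ⟨s * s', mul_ne_zero hs hs', by rw [act_mul, e, map_smul, e', smul_smul]; rfl⟩

theorem MP.inv {g : Iso} {π : Equiv.Perm Ix} (h : MP g π) : MP g⁻¹ π⁻¹ := by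
  refine ⟨fun a => π.injective (by rw [h.1]; simp), fun k => ?_⟩
  obtain ⟨s, hs, e⟩ := h.2 (π⁻¹ k)
  have e' := congrArg (act g⁻¹) e
  rw [Spinor.act_inv_cancel, map_smul, show π (π⁻¹ k) = k by simp] at e'
  refine ⟨s⁻¹, inv_ne_zero hs, ?_⟩
  rw [e', smul_smul, inv_mul_cancel₀ hs, one_smul]

theorem MP.mono {g : Iso} {π : Equiv.Perm Ix} (h : MP g π) : Mono g := fun k => by
  obtain ⟨s, hs, e⟩ := h.2 k
  exact ⟨s, π k, hs, e⟩

theorem MP.cj_Elr {g : Iso} {π : Equiv.Perm Ix} (h : MP g π) (a b : Ix) :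
    cj g (Elr a b) = Elr (π a) (π b) := by
  have key : ∀ {g : Iso} {π : Equiv.Perm Ix}, MP g π → ∀ a b,
      cj g (Elr a b) ≤ Elr (π a) (π b) := by
    intro g π h a b
    rw [Bruhat.cj, Elr, MonoidHom.map_closure]
    refine (Subgroup.closure_le _).2 ?_
    rintro _ ⟨_, ⟨t, rfl⟩, rfl⟩
    show g * el (split m F) a b t * g⁻¹ ∈ Elr (π a) (π b)
    by_cases hd : a = b ∨ b = Sum.swap a
    · rw [el_degenerate hd, mul_one, mul_inv_cancel]; exact one_mem _
    push Not at hd
    obtain ⟨s, hs, ea⟩ := h.2 a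
    obtain ⟨s', hs', eb⟩ := h.2 b
    have hb' : π b ≠ Sum.swap (π a) := fun e => hd.2 (π.injective (e.trans (h.1 a).symm))
    refine Subgroup.subset_closure ⟨s * (t * s'), ?_⟩
    show el (split m F) (π a) (π b) (s * (t * s')) = g * el (split m F) a b t * g⁻¹
    rw [(split m F).el_eq rfl hd.2, eich_conj]
    have e1 : act g (t • bv b) = (t * s') • bv (π b) := by rw [map_smul, eb, smul_smul]
    simp only [ea, e1]
    rw [eich_smul s _ _ ((split m F).Q_bv rfl)
      (by rw [smul_smul, QuadraticMap.polar_smul_right, (split m F).B_ne hb', smul_zero]),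
      eich_congr (smul_smul s (t * s') (bv (π b) : Ix → F)), (split m F).el_eq rfl hb']
  refine le_antisymm (key h a b) ?_
  have := cj_mono g (key (MP.inv h) (π a) (π b))
  rwa [← cj_mul, mul_inv_cancel, cj_one, show π⁻¹ (π a) = a by simp, show π⁻¹ (π b) = b by simp] at this

theorem lev_T {i j : Fin m} (h : i ≠ j) (t : F) :
    lev m F (T i j t) = el (split m F) (Sum.inl i) (Sum.inr j) (-t) := by
  have hb : (Sum.inr j : Ix) ≠ Sum.swap (Sum.inl i) := fun e => h (Sum.inr.inj e).symm
  have hi : (T i j t)⁻¹ = T i j (-t) :=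
    inv_eq_of_mul_eq_one_right (by rw [← T_add h, add_neg_cancel, T_zero])
  refine (split m F).ext_bv fun k => ?_
  rw [act_el hb]
  rcases k with k | k <;> funext z
  · rw [lev_inl, T_coe h]
    rcases z with z | z <;>
      simp [bv, Pi.single_apply, Matrix.transvection, Matrix.one_apply, Matrix.single_apply]
    all_goals split_ifs <;> simp_all [Pi.single_apply]
  · rw [lev_inr, hi, T_coe h]
    rcases z with z | z <;>
      simp [bv, Pi.single_apply, Matrix.transvection, Matrix.one_apply, Matrix.single_apply]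
    · by_cases h1 : i = k <;> simp [h1]
    · by_cases h1 : i = k
      · subst h1
        by_cases h2 : z = j <;> by_cases h3 : z = i <;> simp_all [Ne.symm h]
        · simp [Ne.symm h2, Ne.symm h3]
      · by_cases h3 : z = k
        · subst h3; simp [h1]
        · simp [h1, h3, Ne.symm h3]

theorem lev_wS {x y : Fin m} (hxy : x ≠ y) {t : F} (ht : t ≠ 0) :
    MP (lev m F (wS x y t)) (sw2 x y) := by
  refine ⟨fun a => by rcases a with i | i <;> rfl, fun k => ?_⟩
  have hm := wS_monomial hxy ht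
  have hmi := wS_monomial hxy (neg_ne_zero.2 ht)
  rcases k with k | k
  · refine ⟨_, hm.1 k, ?_⟩
    funext z
    rw [lev_inl]
    rcases z with z | z
    · simp [hm.2, sw2, bv, Pi.single_apply]
    · simp [sw2, bv]
  · refine ⟨_, hmi.1 (Equiv.swap x y k), ?_⟩
    funext z
    rw [lev_inr, wS_inv hxy]
    rcases z with z | z
    · simp [sw2, bv]
    · by_cases hz : z = Equiv.swap x y k
      · subst hz; simp [hmi.2, sw2, bv]
      · have : k ≠ Equiv.swap x y z := fun e => hz (by rw [e, Equiv.swap_apply_self])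
        simp [hmi.2, sw2, bv, hz, this]

/-- The change of sign at `d`. -/
noncomputable def flip (m : ℕ) (F : Type*) [Field F] (d : Fin m) : Oplus m F :=
  swp (plusQ F m) Sum.swap (Sum.inl d) 1

theorem flip_MP (d : Fin m) :
    MP (flip m F d) (Equiv.swap (Sum.inl d) (Sum.inr d)) := by
  obtain ⟨e1, e2, e3⟩ := (split m F).act_swp (a := Sum.inl d) rfl (one_ne_zero (α := F))
  refine ⟨fun a => ?_, fun k => ?_⟩
  · rcases a with i | i <;> by_cases h : i = d
    all_goals first
      | (subst h; simp)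
      | simp [Equiv.swap_apply_of_ne_of_ne, h]
  by_cases h1 : k = Sum.inl d
  · subst h1; exact ⟨-1, neg_ne_zero.2 one_ne_zero, by rw [Equiv.swap_apply_left]; exact e1⟩
  by_cases h2 : k = Sum.inr d
  · subst h2
    exact ⟨-(1 : F)⁻¹, neg_ne_zero.2 (inv_ne_zero one_ne_zero), by rw [Equiv.swap_apply_right]; exact e2⟩
  exact ⟨1, one_ne_zero, by rw [one_smul, Equiv.swap_apply_of_ne_of_ne h1 h2]; exact e3 k h1 h2⟩

/-- A group containing the root elements of neighbouring indices is everything. -/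
theorem eq_top_of_adjacent {M : Subgroup (SpecialLinearGroup (Fin m) F)}
    (h : ∀ i j : Fin m, (j.val = i.val + 1 ∨ i.val = j.val + 1) → ∀ t, T i j t ∈ M) : M = ⊤ := by
  have key : ∀ k, ∀ i j : Fin m, (j.val = i.val + k ∨ i.val = j.val + k) → i ≠ j → ∀ t, T i j t ∈ M := by
    intro k
    induction k with
    | zero => intro i j hk hij; exact absurd (Fin.ext (by omega)) hij
    | succ k ih =>
      intro i j hk hij t
      rcases Nat.eq_zero_or_pos k with rfl | hk0
      · exact h i j hk t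
      have hij' : i.val ≠ j.val := fun e => hij (Fin.ext e)
      obtain ⟨z, hz⟩ : ∃ z : Fin m, (j.val = i.val + (k + 1) ∧ z.val = i.val + k) ∨
          (i.val = j.val + (k + 1) ∧ i.val = z.val + k) := by
        rcases hk with hk | hk
        · exact ⟨⟨i.val + k, by omega⟩, Or.inl ⟨hk, rfl⟩⟩
        · exact ⟨⟨j.val + 1, by omega⟩, Or.inr ⟨hk, by simp only; omega⟩⟩
      have n1 : i ≠ z := fun e => by subst e; omega
      have n2 : z ≠ j := fun e => by subst e; omega
      rw [← mul_one t, ← T_bracket hij n1 n2]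
      have a1 := ih i z (by omega) n1 t
      have a2 := h z j (by omega) 1
      rw [commutatorElement_def]
      exact mul_mem (mul_mem (mul_mem a1 a2) (inv_mem a1)) (inv_mem a2)
  refine Classical.Linear.eq_top_of_transvection_mem _ fun i j hij c => ?_
  rw [← T_eq hij]
  rcases le_total i.val j.val with h' | h'
  · exact key (j.val - i.val) i j (by omega) hij c
  · exact key (i.val - j.val) i j (by omega) hij c

variable {K : Type*} [Group K] {P : Twin m F K} {p : K →* Oplus m F}
  (hp1 : ∀ A, p (P.F1 A) = lev m F A)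
  (hp2 : ∀ A, p (P.F2 A) = flip m F P.d * lev m F A * (flip m F P.d)⁻¹)

theorem flip_inv (d : Fin m) : (flip m F d)⁻¹ = flip m F d :=
  inv_eq_of_mul_eq_one_right (reflect_sq _)

include hp2 in
theorem p_two {x y : Fin m} (hxy : x ≠ y) {t : F} (ht : t ≠ 0) :
    MP (p (P.F2 (wS x y t))) (tau P * sw2 x y * tau P) := by
  rw [hp2, flip_inv]
  exact ((flip_MP P.d).mul (lev_wS hxy ht)).mul (flip_MP P.d)

theorem map_cj (g : K) (S : Subgroup K) : (cj g S).map p = cj (p g) (S.map p) := by
  simp only [Bruhat.cj, Subgroup.map_map]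
  congr 1
  ext x
  simp [MulAut.conj_apply]

include hp1 in
theorem map_R {i j : Fin m} (h : i ≠ j) : (R P.F1 i j).map p = Elr (Sum.inl i) (Sum.inr j) := by
  rw [R, MonoidHom.map_closure, Elr]
  congr 1
  ext g
  constructor
  · rintro ⟨_, ⟨t, rfl⟩, rfl⟩
    exact ⟨-t, by rw [hp1, lev_T h]⟩
  · rintro ⟨t, rfl⟩
    exact ⟨_, ⟨-t, rfl⟩, by rw [hp1, lev_T h, neg_neg]⟩

include hp1 hp2 in
/-- Root subgroups go onto root subgroups. -/
theorem map_X (h3 : 3 ≤ m) {a b : Ix} (hab : a ≠ b) (hopp : a ≠ Sum.swap b) :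
    (X P a b).map p = Elr a b := by
  obtain ⟨g, π, hred, i, j, hij, hπ⟩ := exists_reduce P h3 hab hopp
  have hM : MP (p g) π := by
    rcases hred with ⟨rfl, rfl⟩ | ⟨x, y, hxy, rfl, rfl⟩
    · rw [map_one]; exact MP.one
    · exact p_two hp2 hxy one_ne_zero
  have e : (cj g (X P a b)).map p = cj (p g) (Elr a b) := by
    rw [(Red.acts P hred).2, hM.cj_Elr]
    rcases hπ with ⟨h1, h2⟩ | ⟨h1, h2⟩
    · rw [h1, h2]; exact map_R hp1 hij
    · rw [h1, h2, Elr_comm]; exact map_R hp1 hij
  rw [map_cj] at e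
  have := congrArg (cj (p g)⁻¹) e
  rwa [← cj_mul, ← cj_mul, inv_mul_cancel, cj_one, cj_one] at this

theorem X_le_range (a b : Ix) : X P a b ≤ P.F1.range ⊔ P.F2.range := by
  have hR : ∀ i j, R P.F1 i j ≤ P.F1.range ⊔ P.F2.range := fun i j =>
    (Subgroup.closure_le _).2 (by rintro _ ⟨t, rfl⟩; exact Subgroup.mem_sup_left ⟨_, rfl⟩)
  have hS : ∀ o i, S P o i ≤ P.F1.range ⊔ P.F2.range := fun o i => by
    cases o <;> exact (Subgroup.closure_le _).2 (by rintro _ ⟨t, rfl⟩; exact Subgroup.mem_sup_right ⟨_, rfl⟩)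
  have hZ : ∀ o i j, Zf P o i j ≤ P.F1.range ⊔ P.F2.range := fun o i j => by
    unfold Zf
    split_ifs
    · exact bot_le
    · exact hS o i
    · exact hS o j
    · intro x hx
      rw [Z, mem_cj] at hx
      have hg : P.F1 (wS j P.d 1) ∈ P.F1.range ⊔ P.F2.range := Subgroup.mem_sup_left ⟨_, rfl⟩
      have := mul_mem (mul_mem hg (hS o i hx)) (inv_mem hg)
      rwa [show ∀ g x : K, g * (g⁻¹ * x * g) * g⁻¹ = x from fun g x => by group] at this
  rcases a with i | i <;> rcases b with j | j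
  exacts [hZ true i j, hR i j, hR j i, hZ false i j]

include hp1 hp2 in
theorem rootGroup_le_map (h3 : 3 ≤ m) :
    rootGroup (split m F) ≤ (P.F1.range ⊔ P.F2.range).map p := by
  refine (Subgroup.closure_le _).2 ?_
  rintro _ ⟨a, b, t, rfl⟩
  by_cases hd : a = b ∨ b = Sum.swap a
  · rw [el_degenerate hd]; exact one_mem _
  push Not at hd
  refine Subgroup.map_mono (X_le_range a b) ?_
  rw [map_X hp1 hp2 h3 hd.1 fun e => hd.2 (by rw [e, Sum.swap_swap])]
  exact Subgroup.subset_closure ⟨t, rfl⟩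

theorem lev_mem_rootGroup (A : SpecialLinearGroup (Fin m) F) : lev m F A ∈ rootGroup (split m F) := by
  have h : (rootGroup (split m F)).comap (lev m F) = ⊤ :=
    Classical.Linear.eq_top_of_transvection_mem _ fun i j hij c => by
      show lev m F _ ∈ rootGroup (split m F)
      rw [← T_eq hij, lev_T hij]
      exact (split m F).el_mem _ _ _
  exact (h ▸ Subgroup.mem_top A : A ∈ (rootGroup (split m F)).comap (lev m F))

theorem goodList_of {S : Finset Ix} : ∀ (L : List (Fin m)) (z : Fin m), L.Nodup → z ∉ L →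
    Sum.inl z ∈ S → (∀ i ∈ L, Sum.inl i ∈ S) →
    (∀ T' : Finset Ix, T' = S → goodList Sum.swap (fun _ : Ix => 0) T' (L.map Sum.inl) = true)
  | [], _, _, _, _, _, _, _ => rfl
  | a :: L, z, hnd, hz, hzS, hS, _, rfl => by
    rw [List.map_cons, goodList, Bool.and_eq_true, decide_eq_true_eq]
    have hza : z ≠ a := fun e => hz (e ▸ List.mem_cons_self)
    refine ⟨⟨rfl, hS a List.mem_cons_self, Sum.inl z, hzS,
      fun e => hza (Sum.inl.inj e), by simp⟩, ?_⟩
    refine goodList_of L z hnd.of_cons (fun h => hz (List.mem_cons_of_mem _ h)) ?_ ?_ _ rfl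
    · simp [hza, hzS]
    · intro i hi
      have hia : i ≠ a := fun e => (List.nodup_cons.1 hnd).1 (e ▸ hi)
      simp [hia, hS i (List.mem_cons_of_mem _ hi)]

theorem mem_rest {L : List Ix} : ∀ {S : Finset Ix} (x : Ix),
    x ∈ L.foldl (fun S a => (S.erase a).erase (Sum.swap a)) S ↔
      x ∈ S ∧ ∀ a ∈ L, x ≠ a ∧ x ≠ Sum.swap a := by
  induction L with
  | nil => simp
  | cons a L ih =>
    intro S x
    rw [List.foldl_cons, ih]
    simp only [Finset.mem_erase, List.forall_mem_cons]
    tauto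

/-- The root group is the derived group. -/
theorem commutator_le_rootGroup (h3 : 3 ≤ m) : commutator Iso ≤ rootGroup (split m F) := by
  classical
  obtain ⟨i0, hi0⟩ : ∃ i0 : Fin m, i0 = ⟨0, by omega⟩ := ⟨_, rfl⟩
  obtain ⟨i1, hi1⟩ : ∃ i1 : Fin m, i1 = ⟨1, by omega⟩ := ⟨_, rfl⟩
  have h01 : i0 ≠ i1 := by rw [hi0, hi1, ne_eq, Fin.ext_iff]; simp
  obtain ⟨L, hL⟩ : ∃ L, L = (List.finRange m).filter (fun i => decide (i ≠ i0)) := ⟨_, rfl⟩
  have hLmem : ∀ i, i ∈ L ↔ i ≠ i0 := fun i => by simp [hL]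
  have hgood : goodList Sum.swap (fun _ : Ix => 0) Finset.univ (L.map Sum.inl) = true :=
    goodList_of L i0 (hL ▸ (List.nodup_finRange m).filter _) (fun h => (hLmem i0).1 h rfl)
      (Finset.mem_univ _) (fun _ _ => Finset.mem_univ _) _ rfl
  have hrest : rest Sum.swap (L.map Sum.inl) = ({Sum.inl i0, Sum.swap (Sum.inl i0)} : Finset Ix) := by
    ext x
    rw [rest, mem_rest]
    rcases x with i | i <;> simp [hLmem] <;>
      exact ⟨fun h => by_contra fun hne => h i hne rfl, fun h a ha e => ha (e.symm.trans h)⟩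
  have h := split m F
  have hq : ∀ a : Ix, (fun _ : Ix => 0) a = 0 := fun _ => rfl
  refine h.commutator_le hgood (h.mono_swp (hq (Sum.inl i0)) one_ne_zero) (reflect_sq _)
    (fun g hg => h.base_plane (hq (Sum.inl i0)) (fun k hk => absurd hk zero_ne_one) (hrest ▸ hg))
    fun b t hb ht => h.swp_dia_commutator (hq (Sum.inl i0)) (fun u hu => ?_) b t hb ht
  obtain ⟨A, hA⟩ : ∃ A : SpecialLinearGroup (Fin m) F, A = wS i0 i1 u * wS i0 i1 (-1) := ⟨_, rfl⟩
  have hm : IsMonomial A 1 (fun k => if k = i0 then u else if k = i1 then u⁻¹ else 1) :=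
    hA ▸ h_monomial (Chain.idSystem (F := F) (N := m)) h01 hu
  obtain ⟨e, he⟩ : ∃ e : Fin m → F, e = fun k => if k = i0 then u else if k = i1 then u⁻¹ else 1 := ⟨_, rfl⟩
  rw [← he] at hm
  have hval : ∀ i j, (A : Matrix (Fin m) (Fin m) F) i j = if i = j then e j else 0 := fun i j => hm.2 i j
  have hinv : ((A⁻¹ : SpecialLinearGroup (Fin m) F) : Matrix (Fin m) (Fin m) F) =
      Matrix.diagonal fun k => (e k)⁻¹ := by
    rw [← coe_inv_toGL]
    refine Matrix.inv_eq_right_inv ?_
    rw [SpecialLinearGroup.coe_GL_coe_matrix,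
      show (A : Matrix (Fin m) (Fin m) F) = Matrix.diagonal e from Matrix.ext fun i j => by
        rw [hval, Matrix.diagonal_apply]
        split_ifs with h' <;> simp [h'],
      Matrix.diagonal_mul_diagonal]
    simp [hm.1]
  have hl : ∀ k, act (lev m F A) (bv (Sum.inl k)) = e k • bv (Sum.inl k) := fun k => by
    funext z
    rw [lev_inl]
    rcases z with z | z
    · simp [hval, bv, Pi.single_apply]
    · simp [bv]
  have hr : ∀ k, act (lev m F A) (bv (Sum.inr k)) = (e k)⁻¹ • bv (Sum.inr k) := fun k => by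
    funext z
    rw [lev_inr, hinv]
    rcases z with z | z
    · simp [bv]
    · simp [bv, Pi.single_apply, Matrix.diagonal_apply, eq_comm]
  have he0 : e i0 = u := by simp [he]
  have he1 : e i1 = u⁻¹ := by simp [he, h01.symm]
  have heo : ∀ k, k ≠ i0 → k ≠ i1 → e k = 1 := fun k k0 k1 => by simp [he, k0, k1]
  have key : dia (plusQ F m) Sum.swap (Sum.inl i0) u * dia (plusQ F m) Sum.swap (Sum.inl i0) u =
      lev m F A * (flip m F i1 * lev m F A * (flip m F i1)⁻¹) := by
    obtain ⟨f1, f2, f3⟩ := h.act_swp (a := Sum.inl i1) rfl (one_ne_zero (α := F))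
    refine h.ext_bv fun k => ?_
    rw [h.dia_mul (hq (Sum.inl i0)) hu hu, h.act_dia_all (hq (Sum.inl i0)) (mul_ne_zero hu hu) k, flip_inv, act_mul, act_mul,
      act_mul]
    have f1' : act (flip m F i1) (bv (Sum.inl i1)) = -(1 : F) • bv (Sum.inr i1) := f1
    have f2' : act (flip m F i1) (bv (Sum.inr i1)) = -(1 : F)⁻¹ • bv (Sum.inl i1) := f2
    by_cases k1 : k = Sum.inl i1
    · subst k1
      simp only [f1', f2', map_smul, hl, hr, he1, Sum.inl.injEq, Sum.swap_inl, reduceCtorEq,
        if_neg h01.symm, if_false]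
      match_scalars
      field_simp
    by_cases k2 : k = Sum.inr i1
    · subst k2
      simp only [f1', f2', map_smul, hl, hr, he1, Sum.inr.injEq, Sum.swap_inl, reduceCtorEq,
        if_neg h01.symm, if_false]
      match_scalars
      field_simp
    have hfix : act (flip m F i1) (bv k) = bv k := f3 k k1 k2
    rw [hfix]
    rcases k with k | k
    · have hk1 : k ≠ i1 := fun e => k1 (by rw [e])
      rw [hl, map_smul, hfix, map_smul, hl, smul_smul]
      by_cases hk0 : k = i0
      · subst hk0; simp [he0]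
      · simp [heo k hk0 hk1, hk0]
    · have hk1 : k ≠ i1 := fun e => k2 (by rw [e])
      rw [hr, map_smul, hfix, map_smul, hr, smul_smul]
      by_cases hk0 : k = i0
      · subst hk0; simp [he0]
      · simp [heo k hk0 hk1, hk0]
  rw [key]
  refine mul_mem (lev_mem_rootGroup A) ?_
  exact (Subgroup.mem_normalizer_iff.1 (h.mem_normalizer (g := flip m F i1) (h.mono_swp rfl one_ne_zero)
    (by rw [flip_inv]; exact h.mono_swp rfl one_ne_zero)) _).1 (lev_mem_rootGroup A)

include hp1 hp2 in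
/-- The image is the derived group. -/
theorem map_range_eq_omega (h3 : 3 ≤ m) :
    (P.F1.range ⊔ P.F2.range).map p = commutator Iso := by
  refine le_antisymm ?_ ((commutator_le_rootGroup h3).trans (rootGroup_le_map hp1 hp2 h3))
  have hperf : ∀ f : SpecialLinearGroup (Fin m) F →* K, f.range.map p ≤ commutator Iso := fun f => by
    rw [MonoidHom.range_eq_map, Subgroup.map_map,
      ← Classical.Linear.commutator_SL_eq_top (n := Fin m) (F := F) (by simpa using h3), map_commutator_eq]
    exact Subgroup.commutator_mono le_top le_top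
  rw [Subgroup.map_sup]
  exact sup_le (hperf _) (hperf _)

/-! ### Detection of the Weyl elements -/

/-- Unipotent upper triangular for the heights. -/
def IsTri (g : Oplus m F) : Prop :=
  ∀ k, act g (bv k) k = 1 ∧ ∀ z, z ≠ k → hgt z ≤ hgt k → act g (bv k) z = 0

theorem act_expand (g : Iso) (x : Ix → F) (z : Ix) : act g x z = ∑ l, x l * act g (bv l) z := by
  have hx : x = ∑ k, x k • (bv k : Ix → F) := by
    funext i
    simp [bv, Pi.single_apply, Finset.sum_apply]
  conv_lhs => rw [hx, map_sum]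
  simp [Finset.sum_apply]

theorem IsTri.mul {g g' : Iso} (h : IsTri g) (h' : IsTri g') : IsTri (g * g') := by
  intro k
  refine ⟨?_, fun z hz hle => ?_⟩
  · rw [act_mul, act_expand, Finset.sum_eq_single k (fun l _ hl => ?_) (by simp), (h' k).1, (h k).1, one_mul]
    rcases le_or_gt (hgt l) (hgt k) with hle | hlt
    · rw [(h' k).2 l hl hle, zero_mul]
    · rw [(h l).2 k (Ne.symm hl) hlt.le, mul_zero]
  · rw [act_mul, act_expand]
    refine Finset.sum_eq_zero fun l _ => ?_
    by_cases hl : l = k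
    · subst hl; rw [(h l).2 z hz hle, mul_zero]
    rcases le_or_gt (hgt l) (hgt k) with hle' | hlt
    · rw [(h' k).2 l hl hle', zero_mul]
    · rw [(h l).2 z (fun e => by rw [e] at hle; omega) (by omega), mul_zero]

theorem isTri_one : IsTri (1 : Iso) := fun k =>
  ⟨by simp [act_one, bv], fun z hz _ => by simp [act_one, bv, hz]⟩

theorem isTri_el {a b : Ix} (hp : IsPos a b) (t : F) : IsTri (el (split m F) a b t) := by
  obtain ⟨hab, hopp, hpos⟩ := hp
  have hb : b ≠ Sum.swap a := fun e => hopp (by rw [e, Sum.swap_swap])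
  intro k
  have key : ∀ (z : Ix), act (el (split m F) a b t) (bv k) z =
      (if z = k then (1 : F) else 0) + (if Sum.swap a = k ∧ z = b then t else 0) -
        (if Sum.swap b = k ∧ z = a then t else 0) := by
    intro z
    rw [act_el hb]
    by_cases h1 : Sum.swap a = k <;> by_cases h2 : Sum.swap b = k <;>
      simp [bv, Pi.single_apply, h1, h2]
  have n1 : ∀ z, Sum.swap a = k → z = b → hgt k < hgt z := fun z e1 e2 => by
    rw [← e1, e2, hgt_swap]; omega
  have n2 : ∀ z, Sum.swap b = k → z = a → hgt k < hgt z := fun z e1 e2 => by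
    rw [← e1, e2, hgt_swap]; omega
  refine ⟨?_, fun z hz hle => ?_⟩
  · rw [key, if_pos rfl, if_neg fun h => (n1 k h.1 h.2).false, if_neg fun h => (n2 k h.1 h.2).false]
    ring
  · rw [key, if_neg hz, if_neg fun h => (n1 z h.1 h.2).not_ge hle,
      if_neg fun h => (n2 z h.1 h.2).not_ge hle]
    ring

include hp1 hp2 in
theorem isTri_U (h3 : 3 ≤ m) (hd : P.d.val + 1 = m) (hc : P.c.val + 2 = m) {u : K}
    (hu : u ∈ (datum P h3 hd hc).U) : IsTri (p u) := by
  have hu' : u ∈ ⨆ r : {r : Sym2 Ix // posS r}, Xs P r.1 := by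
    refine (Ux_le (datum P h3 hd hc) fun r hr _ => ?_) hu
    exact le_iSup (fun r : {r : Sym2 Ix // posS r} => Xs P r.1) ⟨r, hr⟩
  refine Subgroup.iSup_induction (C := fun u => IsTri (p u)) _ hu' (fun r x hx => ?_)
    (by rw [map_one]; exact isTri_one) (fun x y hx hy => by rw [map_mul]; exact hx.mul hy)
  · obtain ⟨r, hr⟩ := r
    induction r using Sym2.ind with
    | _ a b =>
      have hx' : p x ∈ (Elr a b : Subgroup Iso) :=
        map_X hp1 hp2 h3 hr.1 hr.2.1 ▸ Subgroup.mem_map_of_mem p hx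
      rw [Elr] at hx'
      obtain ⟨t, ht⟩ : ∃ t, p x = el (split m F) a b t := by
        generalize p x = y at hx'
        induction hx' using Subgroup.closure_induction with
        | mem y hy => obtain ⟨t, rfl⟩ := hy; exact ⟨t, rfl⟩
        | one => exact ⟨0, ((split m F).el_add a b 0 0).symm.trans (by rw [add_zero]) |> fun h => (mul_eq_left.1 h).symm⟩
        | mul y z _ _ hy hz =>
          obtain ⟨t, rfl⟩ := hy
          obtain ⟨s, rfl⟩ := hz
          exact ⟨t + s, ((split m F).el_add a b t s).symm⟩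
        | inv y _ hy =>
          obtain ⟨t, rfl⟩ := hy
          have h0 : el (split m F) a b 0 = (1 : Iso) := by
            have h := (split m F).el_add a b 0 0
            rw [add_zero] at h
            exact mul_eq_left.1 h.symm
          exact ⟨-t, inv_eq_of_mul_eq_one_right (by rw [← (split m F).el_add, add_neg_cancel, h0])⟩
      rw [ht]
      exact isTri_el hr t

include hp1 hp2 in
theorem exists_MP (h3 : 3 ≤ m) (hd : P.d.val + 1 = m) (hc : P.c.val + 2 = m) {g : K}
    (hg : g ∈ (datum P h3 hd hc).N) : ∃ π, Acts P g π ∧ MP (p g) π := by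
  induction hg using Subgroup.closure_induction with
  | mem w hw =>
    obtain ⟨o, ho⟩ := Set.mem_iUnion.1 hw
    cases o with
    | some i =>
      obtain ⟨t, ht, rfl⟩ := ho
      exact ⟨_, acts_one P (nx_ne P hd i) ht, by rw [hp1]; exact lev_wS (nx_ne P hd i) ht⟩
    | none =>
      obtain ⟨t, ht, rfl⟩ := ho
      exact ⟨_, acts_two P P.hcd ht, p_two hp2 P.hcd ht⟩
  | one => exact ⟨1, ⟨fun _ => rfl, fun _ _ => by rw [cj_one]; rfl⟩, by rw [map_one]; exact MP.one⟩
  | mul x y _ _ hx hy =>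
    obtain ⟨π, h1, h2⟩ := hx
    obtain ⟨π', h1', h2'⟩ := hy
    exact ⟨π * π', ⟨fun a => by simp [h1'.1, h1.1], fun a b => by rw [cj_mul, h1'.2, h1.2]; rfl⟩,
      by rw [map_mul]; exact h2.mul h2'⟩
  | inv x _ hx =>
    obtain ⟨π, h1, h2⟩ := hx
    exact ⟨π⁻¹, Acts.symm P h1, by rw [map_inv]; exact h2.inv⟩

include hp1 hp2 in
theorem detect (h3 : 3 ≤ m) (hd : P.d.val + 1 = m) (hc : P.c.val + 2 = m) {g : K}
    (hg : g ∈ (datum P h3 hd hc).N) (hgU : p g ∈ (datum P h3 hd hc).U.map p) (r : Sym2 Ix) :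
    cj g ((datum P h3 hd hc).X r) = (datum P h3 hd hc).X r := by
  obtain ⟨π, hA, hM⟩ := exists_MP hp1 hp2 h3 hd hc hg
  obtain ⟨u, hu, hug⟩ := hgU
  have ht := isTri_U hp1 hp2 h3 hd hc hu
  rw [hug] at ht
  have hπ : ∀ k, π k = k := fun k => by
    obtain ⟨s, -, e⟩ := hM.2 k
    have h1 := (ht k).1
    rw [e] at h1
    by_contra hne
    simp [bv, Ne.symm hne] at h1
  induction r using Sym2.ind with
  | _ a b =>
    show cj g (X P a b) = X P a b
    rw [hA.2, hπ, hπ]

theorem range_le_nodes (h3 : 3 ≤ m) (hd : P.d.val + 1 = m) (hc : P.c.val + 2 = m) :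
    P.F1.range ⊔ P.F2.range ≤ ⨆ o, ((datum P h3 hd hc).X ((datum P h3 hd hc).a o) ⊔
      (datum P h3 hd hc).X ((datum P h3 hd hc).neg ((datum P h3 hd hc).a o))) := by
  obtain ⟨V, hV⟩ : ∃ V, V = ⨆ o, ((datum P h3 hd hc).X ((datum P h3 hd hc).a o) ⊔
      (datum P h3 hd hc).X ((datum P h3 hd hc).neg ((datum P h3 hd hc).a o))) := ⟨_, rfl⟩
  rw [← hV]
  have hle : ∀ o, (datum P h3 hd hc).X ((datum P h3 hd hc).a o) ≤ V ∧
      (datum P h3 hd hc).X ((datum P h3 hd hc).neg ((datum P h3 hd hc).a o)) ≤ V := fun o =>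
    ⟨hV ▸ le_iSup_of_le o le_sup_left, hV ▸ le_iSup_of_le o le_sup_right⟩
  have hpos : ∀ i j : Fin m, j.val = i.val + 1 → R P.F1 i j ≤ V ∧ R P.F1 j i ≤ V := by
    intro i j hij
    have hi : i ≠ P.d := fun e => by subst e; omega
    have h := hle (some ⟨i, hi⟩)
    have e : nx P hd ⟨i, hi⟩ = j := Fin.ext hij.symm
    exact ⟨e ▸ h.1, e ▸ h.2⟩
  have h1 : P.F1.range ≤ V := by
    rw [MonoidHom.range_eq_map, Subgroup.map_le_iff_le_comap,
      eq_top_of_adjacent (M := V.comap P.F1) fun i j h t => ?_]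
    show P.F1 (T i j t) ∈ V
    rcases h with h | h
    · exact (hpos i j h).1 (mem_R_of _ _ _ _)
    · exact (hpos j i h).2 (mem_R_of _ _ _ _)
  refine sup_le h1 ?_
  rw [MonoidHom.range_eq_map, Subgroup.map_le_iff_le_comap,
    eq_top_of_adjacent (M := V.comap P.F2) fun i j h t => ?_]
  show P.F2 (T i j t) ∈ V
  by_cases hi : i = P.d
  · have hj : j = P.c := Fin.ext (by subst hi; omega)
    subst hi; subst hj
    refine (hle none).2 ?_
    show _ ∈ X P (Sum.inr P.c) (Sum.inr P.d)
    rw [show X P (Sum.inr P.c) (Sum.inr P.d) = R P.F2 P.d P.c from Zf_d P false P.hcd]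
    exact mem_R_of _ _ _ _
  by_cases hj : j = P.d
  · have hi' : i = P.c := Fin.ext (by subst hj; omega)
    subst hi'; subst hj
    refine (hle none).1 ?_
    show _ ∈ X P (Sum.inl P.c) (Sum.inl P.d)
    rw [show X P (Sum.inl P.c) (Sum.inl P.d) = R P.F2 P.c P.d from Zf_d P true P.hcd]
    exact mem_R_of _ _ _ _
  rw [← P.top i j hi hj]
  exact h1 ⟨_, rfl⟩

include hp1 hp2 in
/-- The kernel over the orthogonal group normalises the soluble positive part. -/
theorem ker_normalises_U (h3 : 3 ≤ m) (hd : P.d.val + 1 = m) (hc : P.c.val + 2 = m) {k : K}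
    (hk : k ∈ P.F1.range ⊔ P.F2.range) (hpk : p k = 1) :
    k ∈ Subgroup.normalizer ((datum P h3 hd hc).U : Set K) :=
  Bruhat.ker_normalises _ p (fun _ hg hgU r => detect hp1 hp2 h3 hd hc hg hgU r)
    (range_le_nodes h3 hd hc hk) hpk

end Cfsg.Agent.CurtisTitsD
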