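import Cfsg.Agent.Lib.CurtisTitsD.Natural
import Cfsg.Agent.Lib.Classical.OrthOrders

/-!
A simple group generated by the images of two copies of `SL_n` glued as in type `D_n` is `PΩ⁺(2n, q)`.
-/

set_option autoImplicit false
set_option linter.unusedSectionVars false

namespace Cfsg.Agent.CurtisTitsD

open Matrix Cfsg.Agent.SimpleFacts.SLnRootLifts Cfsg.Agent.CurtisTitsD.Bruhat
  Cfsg.Agent.Forms Cfsg.Agent.Forms.Reflections Cfsg.Agent.Forms.PlusStd
  Cfsg.Agent.Classical.Orth Cfsg.Agent.Chevalley.Natural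

variable {m : ℕ} {F : Type*} [Field F] [Finite F]

local notation "Ix" => (Fin m ⊕ Fin m)

theorem el_commute {c d : Fin m} (hcd : c ≠ d) (t s : F) :
    Commute (el (split m F) (Sum.inl c) (Sum.inr d) t) (el (split m F) (Sum.inl c) (Sum.inl d) s) ∧
    Commute (el (split m F) (Sum.inl c) (Sum.inr d) t) (el (split m F) (Sum.inr c) (Sum.inr d) s) ∧
    Commute (el (split m F) (Sum.inl d) (Sum.inr c) t) (el (split m F) (Sum.inl c) (Sum.inl d) s) ∧
    Commute (el (split m F) (Sum.inl d) (Sum.inr c) t) (el (split m F) (Sum.inr c) (Sum.inr d) s) := by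
  refine ⟨?_, ?_, ?_, ?_⟩ <;> refine act_ext fun x => ?_
  all_goals
    rw [act_mul, act_mul, act_el (by simp [hcd, hcd.symm]), act_el (by simp [hcd, hcd.symm]),
      act_el (by simp [hcd, hcd.symm]), act_el (by simp [hcd, hcd.symm])]
    simp [bv, hcd, hcd.symm]
    match_scalars <;> ring

theorem flip_commute_lev {d i j : Fin m} (hij : i ≠ j) (hi : i ≠ d) (hj : j ≠ d) (t : F) :
    flip m F d * lev m F (T i j t) * (flip m F d)⁻¹ = lev m F (T i j t) := by
  have h := Spinor.reflect_conj (lev m F (T i j t))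
    (bv (Sum.inl d) + (1 : F) • bv (Sum.swap (Sum.inl d)))
  have hfix : act (lev m F (T i j t)) (bv (Sum.inl d) + (1 : F) • bv (Sum.swap (Sum.inl d))) =
      bv (Sum.inl d) + (1 : F) • bv (Sum.swap (Sum.inl d)) := by
    rw [lev_T hij, act_el (by simp [hij.symm])]
    simp [bv, hi, hj]
  rw [hfix, mul_inv_eq_iff_eq_mul] at h
  rw [mul_inv_eq_iff_eq_mul]
  exact h.symm

/-- The homomorphism onto the second Levi subgroup. -/
noncomputable def lev2 (d : Fin m) : SpecialLinearGroup (Fin m) F →* Oplus m F :=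
  (MulAut.conj (flip m F d)).toMonoidHom.comp (lev m F)

theorem lev_commute {c d : Fin m} (hcd : c ≠ d) (t s : F) :
    Commute (lev m F (T c d t)) (lev2 d (T c d s)) ∧ Commute (lev m F (T c d t)) (lev2 d (T d c s)) ∧
    Commute (lev m F (T d c t)) (lev2 d (T c d s)) ∧ Commute (lev m F (T d c t)) (lev2 d (T d c s)) := by
  have key : ∀ {a b : Fin m}, a ≠ b → ∀ s, lev2 d (T a b s) ∈
      (Elr (Equiv.swap (Sum.inl d) (Sum.inr d) (Sum.inl a))
        (Equiv.swap (Sum.inl d) (Sum.inr d) (Sum.inr b)) : Subgroup (Oplus m F)) := by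
    intro a b hab s
    rw [← (flip_MP d).cj_Elr]
    refine conj_mem_cj _ (Subgroup.subset_closure ⟨-s, ?_⟩)
    exact (lev_T hab s).symm
  have cen : ∀ {g : Oplus m F} {a b : Ix}, (∀ u, Commute g (el (split m F) a b u)) →
      ∀ y ∈ (Elr a b : Subgroup (Oplus m F)), Commute g y := by
    intro g a b hg y hy
    induction hy using Subgroup.closure_induction with
    | mem y hy => obtain ⟨u, rfl⟩ := hy; exact hg u
    | one => exact Commute.one_right g
    | mul y z _ _ hy hz => exact hy.mul_right hz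
    | inv y _ hy => exact hy.inv_right
  have h1 : Equiv.swap (Sum.inl d) (Sum.inr d) (Sum.inl c : Ix) = Sum.inl c :=
    Equiv.swap_apply_of_ne_of_ne (by simp [hcd]) (by simp)
  have h2 : Equiv.swap (Sum.inl d) (Sum.inr d) (Sum.inr c : Ix) = Sum.inr c :=
    Equiv.swap_apply_of_ne_of_ne (by simp) (by simp [hcd])
  have k1 := key hcd s
  have k2 := key hcd.symm s
  rw [h1, Equiv.swap_apply_right] at k1
  rw [h2, Equiv.swap_apply_left, Elr_comm] at k2
  rw [lev_T hcd, lev_T hcd.symm]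
  exact ⟨cen (fun u => (el_commute hcd _ u).1) _ k1, cen (fun u => (el_commute hcd _ u).2.1) _ k2,
    cen (fun u => (el_commute hcd _ u).2.2.1) _ k1, cen (fun u => (el_commute hcd _ u).2.2.2) _ k2⟩

/-- The glued simple group is the orthogonal group. -/
theorem iso_of_homs [Fintype F] (h4 : 4 ≤ m) {G : Type*} [Group G] [IsSimpleGroup G]
    (f1 f2 : SpecialLinearGroup (Fin m) F →* G) {c d : Fin m} (hd : d.val + 1 = m) (hc : c.val + 2 = m)
    (htop : ∀ i j, i ≠ d → j ≠ d → ∀ t, f1 (T i j t) = f2 (T i j t))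
    (hmid : ∀ t u, Commute (f1 (T c d t)) (f2 (T c d u)) ∧ Commute (f1 (T c d t)) (f2 (T d c u)) ∧
      Commute (f1 (T d c t)) (f2 (T c d u)) ∧ Commute (f1 (T d c t)) (f2 (T d c u)))
    (hgen : f1.range ⊔ f2.range = ⊤) (hG : ¬ IsMulCommutative G)
    (hne : f2 (T c d 1) ≠ 1) :
    Nonempty (G ≃* Cfsg.POmega F (Cfsg.quadFormPlus m F)) := by
  classical
  have hcd : c ≠ d := fun e => by subst e; omega
  have h3 : 3 ≤ m := by omega
  obtain ⟨P, hPF1, hPF2, hPd, hPc⟩ : ∃ P : Twin m F (G × Oplus m F),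
      P.F1 = f1.prod (lev m F) ∧ P.F2 = f2.prod (lev2 d) ∧ P.d = d ∧ P.c = c := by
    refine ⟨{
      F1 := f1.prod (lev m F)
      F2 := f2.prod (lev2 d)
      d := d
      c := c
      hcd := hcd
      top := fun i j hi hj t => Prod.ext (htop i j hi hj t) ?_
      mid := fun t u => ?_ }, rfl, rfl, rfl, rfl⟩
    · show lev m F (T i j t) = lev2 d (T i j t)
      by_cases hij : i = j
      · simp [T, hij]
      · exact (flip_commute_lev hij hi hj t).symm
    · obtain ⟨a1, a2, a3, a4⟩ := hmid t u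
      obtain ⟨b1, b2, b3, b4⟩ := lev_commute (F := F) hcd t u
      exact ⟨Prod.ext a1.eq b1.eq, Prod.ext a2.eq b2.eq, Prod.ext a3.eq b3.eq, Prod.ext a4.eq b4.eq⟩
  subst hPd hPc
  obtain ⟨H, hH⟩ : ∃ H, H = P.F1.range ⊔ P.F2.range := ⟨_, rfl⟩
  obtain ⟨p, hp⟩ : ∃ p : G × Oplus m F →* Oplus m F, p = MonoidHom.snd G (Oplus m F) := ⟨_, rfl⟩
  have hp1 : ∀ A, p (P.F1 A) = lev m F A := fun A => by rw [hp, hPF1]; rfl
  have hp2 : ∀ A, p (P.F2 A) = flip m F P.d * lev m F A * (flip m F P.d)⁻¹ := fun A => by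
    rw [hp, hPF2]; rfl
  have hmapG : H.map (MonoidHom.fst G (Oplus m F)) = ⊤ := by
    rw [hH, Subgroup.map_sup, MonoidHom.map_range, MonoidHom.map_range, hPF1, hPF2,
      MonoidHom.fst_comp_prod, MonoidHom.fst_comp_prod, hgen]
  have hperfect : ∀ k, derivedSeries G k = ⊤ := by
    intro k
    induction k with
    | zero => exact derivedSeries_zero G
    | succ k ih =>
      rw [derivedSeries_succ, ih]
      refine (IsSimpleGroup.eq_bot_or_eq_top_of_normal (commutator G) inferInstance).resolve_left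
        fun h => hG ⟨⟨fun a b => ?_⟩⟩
      rw [← commutatorElement_eq_one_iff_mul_comm, ← Subgroup.mem_bot, ← h]
      exact Subgroup.commutator_mem_commutator (Subgroup.mem_top a) (Subgroup.mem_top b)
  obtain ⟨N, hN⟩ : ∃ N, N = (H ⊓ p.ker).map (MonoidHom.fst G (Oplus m F)) := ⟨_, rfl⟩
  have : N.Normal := ⟨fun x hx g => by
    rw [hN] at hx ⊢
    obtain ⟨y, ⟨hyH, hyp⟩, rfl⟩ := hx
    obtain ⟨w, hw, rfl⟩ := hmapG.ge (Subgroup.mem_top g)
    exact ⟨w * y * w⁻¹, Subgroup.mem_inf.2 ⟨H.mul_mem (H.mul_mem hw hyH) (H.inv_mem hw), p.normal_ker.conj_mem y hyp w⟩, rfl⟩⟩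
  have hNbot : N = ⊥ := by
    refine (IsSimpleGroup.eq_bot_or_eq_top_of_normal N inferInstance).resolve_right fun hNtop => ?_
    obtain ⟨D, hD⟩ : ∃ D, D = datum P h3 hd hc := ⟨_, rfl⟩
    obtain ⟨V, hV⟩ : ∃ V, V = D.U.map (MonoidHom.fst G (Oplus m F)) := ⟨_, rfl⟩
    have : V.Normal := ⟨fun x hx g => by
      rw [hV] at hx ⊢
      obtain ⟨u, hu, rfl⟩ := hx
      obtain ⟨k, ⟨hkH, hkp⟩, rfl⟩ := (hN.symm.trans hNtop).ge (Subgroup.mem_top g)
      have hn := ker_normalises_U hp1 hp2 h3 hd hc (hH ▸ hkH) (MonoidHom.mem_ker.1 hkp)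
      rw [← hD] at hn
      exact ⟨k * u * k⁻¹, (Subgroup.mem_normalizer_iff.1 hn u).1 hu, rfl⟩⟩
    rcases IsSimpleGroup.eq_bot_or_eq_top_of_normal V inferInstance with hVb | hVt
    · apply hne
      have hmem : P.F2 (T P.c P.d 1) ∈ D.U := by
        refine le_U D (r := nodeRoot P hd none) (hD ▸ (datum P h3 hd hc).a_pos none) ?_
        rw [hD]
        show _ ∈ X P (Sum.inl P.c) (Sum.inl P.d)
        rw [show X P (Sum.inl P.c) (Sum.inl P.d) = R P.F2 P.c P.d from Zf_d P true P.hcd]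
        exact mem_R_of _ _ _ _
      rw [← Subgroup.mem_bot, ← hVb, hV]
      exact ⟨_, hmem, by rw [hPF2]; rfl⟩
    · have h := derived_eq_bot D (MonoidHom.fst G (Oplus m F)) (hV.symm.trans hVt)
      have h' : (⊤ : Subgroup G) ≤ ⊥ := ((hperfect _).symm.trans h).le
      exact hG ⟨⟨fun a b => by
        rw [Subgroup.mem_bot.1 (h' (Subgroup.mem_top a)), Subgroup.mem_bot.1 (h' (Subgroup.mem_top b))]⟩⟩
  have hinj : ∀ x ∈ H, p x = 1 → x = 1 := fun x hx hpx => by
    refine Prod.ext (Subgroup.mem_bot.1 (hNbot ▸ hN ▸ ⟨x, ⟨hx, hpx⟩, rfl⟩)) ?_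
    rw [hp] at hpx
    exact hpx
  have hrange : (p.comp H.subtype).range = commutator (Oplus m F) := by
    rw [MonoidHom.range_comp, Subgroup.range_subtype, hH]
    exact map_range_eq_omega hp1 hp2 h3
  let e : H ≃* commutator (Oplus m F) := (MonoidHom.ofInjective (f := p.comp H.subtype)
    ((injective_iff_map_eq_one _).2 fun x hx => Subtype.ext (hinj x x.2 hx))).trans
      (MulEquiv.subgroupCongr hrange)
  let φ : Cfsg.Omega F ⇑(plusQ F m) →* G :=
    ((MonoidHom.fst G (Oplus m F)).comp H.subtype).comp e.symm.toMonoidHom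
  have hφ : Function.Surjective φ := by
    intro g
    obtain ⟨w, hw, rfl⟩ := hmapG.ge (Subgroup.mem_top g)
    refine ⟨e ⟨w, hw⟩, ?_⟩
    show MonoidHom.fst G (Oplus m F) (H.subtype (e.symm (e ⟨w, hw⟩))) = _
    rw [MulEquiv.symm_apply_apply]
    rfl
  have hcG : Subgroup.center G = ⊥ :=
    (IsSimpleGroup.eq_bot_or_eq_top_of_normal _ inferInstance).resolve_right fun h => hG
      ⟨⟨fun a b => (Subgroup.mem_center_iff.1 (h ▸ Subgroup.mem_top a) b).symm⟩⟩
  have hcle : Subgroup.center (Cfsg.Omega F ⇑(plusQ F m)) ≤ φ.ker := fun z hz => by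
    have h : φ z ∈ Subgroup.center G := Subgroup.mem_center_iff.2 fun g => by
      obtain ⟨x, rfl⟩ := hφ g
      rw [← map_mul, ← map_mul, Subgroup.mem_center_iff.1 hz x]
    rw [hcG, Subgroup.mem_bot] at h
    exact h
  rw [← Classical.OrthForms.plusQ_eq]
  have : IsSimpleGroup (Cfsg.POmega F ⇑(plusQ F m)) :=
    isSimpleGroup_POmega (plusQ_nondeg F m) (Classical.OrthForms.plusFrame F (by omega)) (by simp; omega)
  let g : Cfsg.POmega F ⇑(plusQ F m) →* G := QuotientGroup.lift _ φ hcle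
  have hg : Function.Surjective g := fun y => by
    obtain ⟨x, rfl⟩ := hφ y
    exact ⟨QuotientGroup.mk x, rfl⟩
  have hker : g.ker = ⊥ := by
    refine (IsSimpleGroup.eq_bot_or_eq_top_of_normal g.ker inferInstance).resolve_right fun h => hG ?_
    refine ⟨⟨fun a b => ?_⟩⟩
    obtain ⟨x, rfl⟩ := hg a
    obtain ⟨y, rfl⟩ := hg b
    rw [MonoidHom.mem_ker.1 (h ▸ Subgroup.mem_top x), MonoidHom.mem_ker.1 (h ▸ Subgroup.mem_top y)]
  exact ⟨(MulEquiv.ofBijective g ⟨(MonoidHom.ker_eq_bot_iff g).1 hker, hg⟩).symm⟩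

end Cfsg.Agent.CurtisTitsD
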