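import Cfsg.Agent.Lib.CurtisTitsD.Seed

/-!
The root subgroups of a twin of homomorphisms from `SL_n`, their symmetry, and the commutator formula.
-/

set_option autoImplicit false
set_option linter.unusedSectionVars false

namespace Cfsg.Agent.CurtisTitsD

open Matrix Cfsg.Agent.SimpleFacts.SLnRootLifts Cfsg.Agent.CurtisTitsD.Bruhat
open scoped commutatorElement

variable {n : ℕ} {F : Type*} [Field F] [Finite F] {K : Type*} [Group K] (P : Twin n F K)

local notation "Ix" => (Fin n ⊕ Fin n)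

/-- The root subgroup of two signed indices. -/
def X : Fin n ⊕ Fin n → Fin n ⊕ Fin n → Subgroup K
  | Sum.inl i, Sum.inl j => Zf P true i j
  | Sum.inr i, Sum.inr j => Zf P false i j
  | Sum.inl i, Sum.inr j => R P.F1 i j
  | Sum.inr j, Sum.inl i => R P.F1 i j

theorem X_symm (a b : Ix) : X P a b = X P b a := by
  rcases a with i | i <;> rcases b with j | j <;> simp only [X] <;> exact Zf_symm P _ _ _

theorem X_self (a : Ix) : X P a a = ⊥ := by rcases a with i | i <;> exact Zf_self P _ i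

theorem X_opp (a : Ix) : X P a (Sum.swap a) = ⊥ := by rcases a with i | i <;> exact R_self _ i

/-- The change of sign at `d`. -/
def tau : Equiv.Perm (Fin n ⊕ Fin n) := Equiv.swap (Sum.inl P.d) (Sum.inr P.d)

theorem tau_inl_d : tau P (Sum.inl P.d) = Sum.inr P.d := Equiv.swap_apply_left _ _

theorem tau_inr_d : tau P (Sum.inr P.d) = Sum.inl P.d := Equiv.swap_apply_right _ _

theorem tau_inl {i : Fin n} (h : i ≠ P.d) : tau P (Sum.inl i) = Sum.inl i :=
  Equiv.swap_apply_of_ne_of_ne (by simp [h]) (by simp)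

theorem tau_inr {i : Fin n} (h : i ≠ P.d) : tau P (Sum.inr i) = Sum.inr i :=
  Equiv.swap_apply_of_ne_of_ne (by simp) (by simp [h])

theorem Z_eq_commutator (o : Bool) {i j : Fin n} (hij : i ≠ j) (hi : i ≠ P.d) (hj : j ≠ P.d) :
    Z P o i j = ⁅RO o P.F1 i P.d, S P o j⁆ := by
  rw [Z, S, ← commutator_RO o hij hj hi, cj_commutator, ← RO_top P o hi hj,
    cj_RO o (wS_monomial hj (one_ne_zero (α := F))), Equiv.swap_apply_left,
    Equiv.swap_apply_of_ne_of_ne hij hi]
  congr 1
  exact cj_S_self P o hj one_ne_zero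

/-- Exchanging the homomorphisms changes the sign at `d`. -/
theorem X_op (a b : Ix) : X P.op a b = X P (tau P a) (tau P b) := by
  have hd : P.op.d = P.d := rfl
  have hz : ∀ (o : Bool) (i j : Fin n), i ≠ P.d → j ≠ P.d → Zf P.op o i j = Zf P o i j := by
    intro o i j hi hj
    by_cases hij : i = j
    · subst hij; rw [Zf_self, Zf_self]
    rw [Zf_ne P.op o hij hi hj, Z_eq_commutator P.op o hij hi hj, Subgroup.commutator_comm,
      Zf_ne P o hij hi hj, Z_symm P o hij hi hj, Z_eq_commutator P o (Ne.symm hij) hj hi]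
    rfl
  have hzd : ∀ (o : Bool) (i : Fin n), i ≠ P.d → Zf P.op o i P.d = RO o P.F1 i P.d := fun o i hi =>
    Zf_d P.op o hi
  have hr : ∀ i j : Fin n, i ≠ P.d → j ≠ P.d → R P.op.F1 i j = R P.F1 i j := fun i j hi hj =>
    (R_top P hi hj).symm
  have h1 : ∀ i : Fin n, i ≠ P.d → R P.op.F1 i P.d = Zf P true i P.d := fun i hi => (Zf_d P true hi).symm
  have h2 : ∀ i : Fin n, i ≠ P.d → R P.op.F1 P.d i = Zf P false i P.d := fun i hi => (Zf_d P false hi).symm
  rcases a with i | i <;> rcases b with j | j <;> by_cases hi : i = P.d <;> by_cases hj : j = P.d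
  all_goals try subst hi
  all_goals try subst hj
  all_goals simp only [tau_inl_d, tau_inr_d, tau_inl, tau_inr, ne_eq, not_false_eq_true, X, *]
  all_goals try rw [Zf_symm P.op]
  all_goals try simp only [ne_eq, not_false_eq_true, Zf_self, R_self, RO, cond_true, cond_false, *]
  all_goals first | rfl | exact Zf_symm P _ _ _

/-! ### Symmetries -/

/-- `g` permutes the root subgroups by `π`. -/
def Acts (g : K) (π : Equiv.Perm (Fin n ⊕ Fin n)) : Prop :=
  (∀ a, π (Sum.swap a) = Sum.swap (π a)) ∧ ∀ a b, cj g (X P a b) = X P (π a) (π b)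

/-- The permutation of the signed indices by a transposition. -/
def sw2 (x y : Fin n) : Equiv.Perm (Fin n ⊕ Fin n) := Equiv.sumCongr (Equiv.swap x y) (Equiv.swap x y)

theorem acts_one {x y : Fin n} (hxy : x ≠ y) {t : F} (ht : t ≠ 0) :
    Acts P (P.F1 (wS x y t)) (sw2 x y) := by
  refine ⟨fun a => by rcases a with i | i <;> rfl, fun a b => ?_⟩
  rcases a with i | i <;> rcases b with j | j
  · exact cj_Zf P true hxy ht i j
  · exact cj_R (wS_monomial hxy ht) i j
  · exact cj_R (wS_monomial hxy ht) j i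
  · exact cj_Zf P false hxy ht i j

theorem tau_swap (a : Ix) : tau P (Sum.swap a) = Sum.swap (tau P a) := by
  rcases a with i | i <;> by_cases hi : i = P.d
  all_goals first
    | (subst hi; simp [tau_inl_d, tau_inr_d])
    | simp [tau_inl, tau_inr, hi]

theorem acts_two {x y : Fin n} (hxy : x ≠ y) {t : F} (ht : t ≠ 0) :
    Acts P (P.F2 (wS x y t)) (tau P * sw2 x y * tau P) := by
  have h := acts_one P.op hxy ht
  have hinv : ∀ a, tau P (tau P a) = a := fun a => Equiv.swap_apply_self _ _ a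
  refine ⟨fun a => ?_, fun a b => ?_⟩
  · simp only [Equiv.Perm.mul_apply, tau_swap, h.1]
  · conv_lhs => rw [show X P a b = X P.op (tau P a) (tau P b) by rw [X_op, hinv, hinv]]
    rw [show P.F2 = P.op.F1 from rfl, h.2, X_op]
    rfl

theorem Acts.symm {g : K} {π : Equiv.Perm Ix} (h : Acts P g π) : Acts P g⁻¹ π⁻¹ := by
  refine ⟨fun a => π.injective ?_, fun a b => cj_inv ?_⟩
  · rw [h.1]; simp
  · rw [h.2]; simp

/-- The elements used to reduce a root. -/
def Red (g : K) (π : Equiv.Perm (Fin n ⊕ Fin n)) : Prop :=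
  (g = 1 ∧ π = 1) ∨ ∃ x y, x ≠ y ∧ g = P.F2 (wS x y 1) ∧ π = tau P * sw2 x y * tau P

theorem Red.acts {g : K} {π : Equiv.Perm Ix} (h : Red P g π) : Acts P g π := by
  rcases h with ⟨rfl, rfl⟩ | ⟨x, y, hxy, rfl, rfl⟩
  · exact ⟨fun _ => rfl, fun _ _ => by rw [cj_one]; rfl⟩
  · exact acts_two P hxy one_ne_zero

/-- A root is carried to one of the first homomorphism. -/
theorem exists_reduce (h3 : 3 ≤ n) {a b : Ix} (hab : a ≠ b) (hopp : a ≠ Sum.swap b) :
    ∃ g π, Red P g π ∧ ∃ i j, i ≠ j ∧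
      ((π a = Sum.inl i ∧ π b = Sum.inr j) ∨ (π b = Sum.inl i ∧ π a = Sum.inr j)) := by
  have hone : Red P 1 1 := Or.inl ⟨rfl, rfl⟩
  have key : ∀ i j : Fin n, i ≠ j → i ≠ P.d → ∀ o : Bool,
      ∃ g π, Red P g π ∧ ∃ k, k ≠ i ∧
        π (bif o then Sum.inl i else Sum.inr i) = (bif o then Sum.inl i else Sum.inr i) ∧
        π (bif o then Sum.inl j else Sum.inr j) = (bif o then Sum.inr k else Sum.inl k) := by
    intro i j hij hi o
    by_cases hj : j = P.d
    · subst hj
      obtain ⟨k, hki, hkd⟩ := Classical.Linear.exists_third (n := Fin n) (by simpa using h3) i P.d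
      refine ⟨_, _, Or.inr ⟨k, P.d, hkd, rfl, rfl⟩, k, hki, ?_, ?_⟩ <;> cases o <;>
        simp [tau_inl_d, tau_inr_d, tau_inl, tau_inr, sw2, hi, hkd,
          Equiv.swap_apply_of_ne_of_ne (Ne.symm hki) hi]
    · refine ⟨_, _, Or.inr ⟨j, P.d, hj, rfl, rfl⟩, P.d, Ne.symm hi, ?_, ?_⟩ <;> cases o <;>
        simp [tau_inl_d, tau_inr_d, tau_inl, tau_inr, sw2, hi, hj,
          Equiv.swap_apply_of_ne_of_ne hij hi]
  rcases a with i | i <;> rcases b with j | j
  · have hij : i ≠ j := fun e => hab (congrArg Sum.inl e)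
    by_cases hi : i = P.d
    · obtain ⟨g, π, hg, k, hk, e1, e2⟩ := key j i hij.symm (fun e => hij (hi.trans e.symm)) true
      exact ⟨g, π, hg, j, k, hk.symm, Or.inr ⟨e1, e2⟩⟩
    · obtain ⟨g, π, hg, k, hk, e1, e2⟩ := key i j hij hi true
      exact ⟨g, π, hg, i, k, hk.symm, Or.inl ⟨e1, e2⟩⟩
  · exact ⟨1, 1, hone, i, j, fun e => hopp (by rw [e]; rfl), Or.inl ⟨rfl, rfl⟩⟩
  · exact ⟨1, 1, hone, j, i, fun e => hopp (by rw [e]; rfl), Or.inr ⟨rfl, rfl⟩⟩
  · have hij : i ≠ j := fun e => hab (congrArg Sum.inr e)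
    by_cases hi : i = P.d
    · obtain ⟨g, π, hg, k, hk, e1, e2⟩ := key j i hij.symm (fun e => hij (hi.trans e.symm)) false
      exact ⟨g, π, hg, k, j, hk, Or.inl ⟨e2, e1⟩⟩
    · obtain ⟨g, π, hg, k, hk, e1, e2⟩ := key i j hij hi false
      exact ⟨g, π, hg, k, i, hk, Or.inr ⟨e2, e1⟩⟩

/-! ### Commutators -/

/-- The commutator lies in the roots with the same sum. -/
def Good (a b c e : Fin n ⊕ Fin n) : Prop :=
  ∀ h : Fin n ⊕ Fin n → ℤ, (∀ u, h (Sum.swap u) = -h u) →
    ⁅X P a b, X P c e⁆ ≤ ⨆ (u : Fin n ⊕ Fin n) (v : Fin n ⊕ Fin n)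
      (_ : h u + h v = h a + h b + h c + h e), X P u v

theorem good_of_bot {a b c e : Ix} (h : ⁅X P a b, X P c e⁆ = ⊥) : Good P a b c e :=
  fun _ _ => h ▸ bot_le

theorem good_of_eq {a b c e u v : Ix} (h : ⁅X P a b, X P c e⁆ ≤ X P u v)
    (hs : ∀ h : Ix → ℤ, (∀ u, h (Sum.swap u) = -h u) → h u + h v = h a + h b + h c + h e) :
    Good P a b c e := fun f hf =>
  h.trans (le_iSup_of_le u (le_iSup_of_le v (le_iSup_of_le (hs f hf) le_rfl)))

theorem Good.swap_left {a b c e : Ix} (h : Good P a b c e) : Good P b a c e := fun f hf => by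
  rw [X_symm P b a, add_comm (f b)]; exact h f hf

theorem Good.swap_right {a b c e : Ix} (h : Good P a b c e) : Good P a b e c := fun f hf => by
  rw [X_symm P e c, add_right_comm _ (f e)]; exact h f hf

theorem Good.move {g : K} {π : Equiv.Perm Ix} (hg : Acts P g π) {a b c e : Ix}
    (h : Good P (π a) (π b) (π c) (π e)) : Good P a b c e := fun f hf => by
  have hi := Acts.symm P hg
  have h' := cj_mono g⁻¹ (h (fun u => f (π⁻¹ u)) (fun u => by rw [hi.1, hf]))
  rw [cj_commutator, hi.2, hi.2, cj_iSup] at h'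
  simp only [Equiv.Perm.coe_inv, Equiv.symm_apply_apply] at h'
  refine h'.trans (iSup_le fun u => ?_)
  rw [cj_iSup]
  refine iSup_le fun v => ?_
  rw [cj_iSup]
  refine iSup_le fun hs => ?_
  rw [hi.2]
  exact le_iSup_of_le (π⁻¹ u) (le_iSup_of_le (π⁻¹ v) (le_iSup_of_le hs le_rfl))

/-- The side of a sign. -/
def side (o : Bool) (k : Fin n) : Fin n ⊕ Fin n := bif o then Sum.inl k else Sum.inr k

theorem X_side (o : Bool) (k l : Fin n) : X P (side o k) (side o l) = Zf P o k l := by cases o <;> rfl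

theorem good_mid (o : Bool) {i j l : Fin n} (hij : i ≠ j) (hl : l ≠ P.d)
    (h : (i = l ∧ j = P.d) ∨ (i = P.d ∧ j = l)) :
    ⁅R P.F1 i j, Zf P o l P.d⁆ = ⊥ := by
  have base : ∀ a b : Fin n, (a = P.c ∧ b = P.d) ∨ (a = P.d ∧ b = P.c) →
      ⁅R P.F1 a b, Zf P o P.c P.d⁆ = ⊥ := by
    intro a b hab
    rw [Zf_d P o P.hcd, ← le_bot_iff]
    refine Subgroup.commutator_le.2 fun x hx y hy => ?_
    rw [Subgroup.mem_bot, commutatorElement_eq_one_iff_mul_comm]
    obtain ⟨t, rfl⟩ := mem_R hx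
    cases o
    · obtain ⟨u, rfl⟩ := mem_R (i := P.d) (j := P.c) hy
      rcases hab with ⟨rfl, rfl⟩ | ⟨rfl, rfl⟩
      exacts [(P.mid t u).2.1.eq, (P.mid t u).2.2.2.eq]
    · obtain ⟨u, rfl⟩ := mem_R (i := P.c) (j := P.d) hy
      rcases hab with ⟨rfl, rfl⟩ | ⟨rfl, rfl⟩
      exacts [(P.mid t u).1.eq, (P.mid t u).2.2.1.eq]
  by_cases hlc : l = P.c
  · subst hlc; exact base i j h
  have h1 : (1 : F) ≠ 0 := one_ne_zero
  have e := base (Equiv.swap l P.c i) (Equiv.swap l P.c j) (by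
    rcases h with ⟨rfl, rfl⟩ | ⟨rfl, rfl⟩ <;>
      simp [Equiv.swap_apply_of_ne_of_ne hl.symm P.hcd.symm])
  have h2 := congrArg (cj (P.F1 (wS l P.c (1 : F)))⁻¹) e
  have e1 : cj (P.F1 (wS l P.c (1 : F))) ⁅R P.F1 i j, Zf P o l P.d⁆ =
      ⁅R P.F1 (Equiv.swap l P.c i) (Equiv.swap l P.c j), Zf P o P.c P.d⁆ := by
    rw [cj_commutator, cj_R (wS_monomial hlc h1), cj_Zf P o hlc h1, Equiv.swap_apply_left,
      Equiv.swap_apply_of_ne_of_ne hl.symm P.hcd.symm]
  rw [← e1, ← cj_mul, inv_mul_cancel, cj_one, cj, Subgroup.map_bot] at h2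
  exact h2

theorem good_top (o : Bool) {i j l : Fin n} (hij : i ≠ j) (hi : i ≠ P.d) (hj : j ≠ P.d)
    (hl : l ≠ P.d) : Good P (Sum.inl i) (Sum.inr j) (side o l) (side o P.d) := by
  have e : ⁅X P (Sum.inl i) (Sum.inr j), X P (side o l) (side o P.d)⁆ = ⁅R P.F2 i j, RO o P.F2 l P.d⁆ := by
    rw [X_side, Zf_d P o hl, show X P (Sum.inl i) (Sum.inr j) = R P.F1 i j from rfl, R_top P hi hj]
    rfl
  cases o
  · by_cases hil : i = l
    · subst hil
      refine good_of_eq P (u := Sum.inr j) (v := Sum.inr P.d) ?_ fun h hh => ?_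
      · rw [e, Subgroup.commutator_comm]
        show ⁅R P.F2 P.d i, R P.F2 i j⁆ ≤ Zf P false j P.d
        rw [commutator_R_le hi.symm hij hj.symm, Zf_d P false hj]
        exact le_rfl
      · have h1 : h (Sum.inr i) = -h (Sum.inl i) := hh (Sum.inl i)
        simp only [side, cond_false, h1]; ring
    · exact good_of_bot P (e.trans (commutator_R_eq_bot hij hl.symm hil hj))
  · by_cases hjl : j = l
    · subst hjl
      refine good_of_eq P (u := Sum.inl i) (v := Sum.inl P.d) ?_ fun h hh => ?_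
      · rw [e]
        show ⁅R P.F2 i j, R P.F2 j P.d⁆ ≤ Zf P true i P.d
        rw [commutator_R_le hij hj hi, Zf_d P true hi]
        exact le_rfl
      · have h1 : h (Sum.inr j) = -h (Sum.inl j) := hh (Sum.inl j)
        simp only [side, cond_true, h1]; ring
    · exact good_of_bot P (e.trans (commutator_R_eq_bot hij hl hi hjl))

theorem good_side (o : Bool) {i j k l : Fin n} (hij : i ≠ j) :
    Good P (Sum.inl i) (Sum.inr j) (side o k) (side o l) := by
  by_cases hkl : k = l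
  · subst hkl
    exact good_of_bot P (by rw [X_self, Subgroup.commutator_bot_right])
  have main : ∀ k l : Fin n, k ≠ l → (l = i ∨ l = j → k = i ∨ k = j) →
      Good P (Sum.inl i) (Sum.inr j) (side o k) (side o l) := by
    intro k l hkl hfree
    have fin : ∀ i' j' k' : Fin n, i' ≠ j' → k' ≠ P.d → (P.d = i' ∨ P.d = j' → k' = i' ∨ k' = j') →
        Good P (Sum.inl i') (Sum.inr j') (side o k') (side o P.d) := by
      intro i' j' k' hij' hk' hf
      by_cases hd : P.d = i' ∨ P.d = j'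
      · refine good_of_bot P ?_
        rw [X_side]
        refine good_mid P o hij' hk' ?_
        rcases hd with h | h <;> rcases hf (by tauto) with h' | h'
        · exact absurd (h'.trans h.symm) hk'
        · exact Or.inr ⟨h.symm, h'.symm⟩
        · exact Or.inl ⟨h'.symm, h.symm⟩
        · exact absurd (h'.trans h.symm) hk'
      · push Not at hd
        exact good_top P o hij' hd.1.symm hd.2.symm hk'
    by_cases hl : l = P.d
    · subst hl; exact fin i j k hij hkl hfree
    obtain ⟨σ, hσ⟩ : ∃ σ, σ = Equiv.swap l P.d := ⟨_, rfl⟩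
    have e : σ l = P.d := by rw [hσ, Equiv.swap_apply_left]
    refine Good.move P (acts_one P hl (one_ne_zero (α := F))) ?_
    have hs : ∀ m, sw2 l P.d (side o m) = side o (σ m) := fun m => by cases o <;> simp [sw2, side, hσ]
    rw [hs, hs, show sw2 l P.d (Sum.inl i) = Sum.inl (σ i) by simp [sw2, hσ],
      show sw2 l P.d (Sum.inr j) = Sum.inr (σ j) by simp [sw2, hσ], e]
    refine fin _ _ _ (σ.injective.ne hij) (fun h => hkl (σ.injective (h.trans e.symm))) fun h => ?_
    rw [← e, σ.apply_eq_iff_eq, σ.apply_eq_iff_eq] at h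
    exact (hfree h).imp (congrArg σ) (congrArg σ)
  by_cases h : (l = i ∨ l = j) ∧ ¬(k = i ∨ k = j)
  · exact Good.swap_right P (main l k (Ne.symm hkl) fun h' => absurd h' h.2)
  · exact main k l hkl fun h' => by tauto

/-- The commutator formula. -/
theorem good (h3 : 3 ≤ n) {a b c e : Ix}
    (hne : ¬((c = Sum.swap a ∧ e = Sum.swap b) ∨ (c = Sum.swap b ∧ e = Sum.swap a))) :
    Good P a b c e := by
  by_cases hab : a = b
  · exact good_of_bot P (by rw [hab, X_self, Subgroup.commutator_bot_left])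
  by_cases hopp : a = Sum.swap b
  · exact good_of_bot P (by rw [X_symm, hopp, X_opp, Subgroup.commutator_bot_left])
  obtain ⟨g, π, hred, i, j, hij, hπ⟩ := exists_reduce P h3 hab hopp
  have hg := Red.acts P hred
  refine Good.move P hg ?_
  have hne' : ¬((π c = Sum.inr i ∧ π e = Sum.inl j) ∨ (π c = Sum.inl j ∧ π e = Sum.inr i)) := by
    intro h
    apply hne
    have key : ∀ {u v : Ix} {w : Ix}, π u = w → π v = Sum.swap w → v = Sum.swap u := fun h1 h2 =>
      π.injective (by rw [hg.1, h1, h2])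
    rcases hπ with ⟨h1, h2⟩ | ⟨h1, h2⟩ <;> rcases h with ⟨h3', h4⟩ | ⟨h3', h4⟩
    · exact Or.inl ⟨key h1 h3', key h2 h4⟩
    · exact Or.inr ⟨key h2 h3', key h1 h4⟩
    · exact Or.inr ⟨key h1 h3', key h2 h4⟩
    · exact Or.inl ⟨key h2 h3', key h1 h4⟩
  obtain ⟨c', hc⟩ : ∃ c', π c = c' := ⟨_, rfl⟩
  obtain ⟨e', he⟩ : ∃ e', π e = e' := ⟨_, rfl⟩
  rw [hc, he] at hne' ⊢
  suffices H : Good P (Sum.inl i) (Sum.inr j) c' e' by
    rcases hπ with ⟨h1, h2⟩ | ⟨h1, h2⟩
    · rwa [h1, h2]
    · rw [h1, h2]; exact Good.swap_left P H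
  have hroot : ∀ k l : Fin n, ¬(k = j ∧ l = i) →
      Good P (Sum.inl i) (Sum.inr j) (Sum.inl k) (Sum.inr l) := by
    intro k l hkl'
    by_cases hkl : k = l
    · subst hkl
      exact good_of_bot P (by rw [show X P (Sum.inl k) (Sum.inr k) = ⊥ from R_self _ k, Subgroup.commutator_bot_right])
    show Good P _ _ _ _
    by_cases hjk : j = k
    · subst hjk
      refine good_of_eq P (u := Sum.inl i) (v := Sum.inr l)
        (commutator_R_le hij hkl fun e => hkl' ⟨rfl, e.symm⟩).le fun h hh => ?_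
      have h1 : h (Sum.inr j) = -h (Sum.inl j) := hh (Sum.inl j)
      rw [h1]; ring
    by_cases hil : i = l
    · subst hil
      refine good_of_eq P (u := Sum.inl k) (v := Sum.inr j) ?_ fun h hh => ?_
      · rw [Subgroup.commutator_comm]
        exact (commutator_R_le hkl hij (Ne.symm hjk)).le
      · have h1 : h (Sum.inr i) = -h (Sum.inl i) := hh (Sum.inl i)
        rw [h1]; ring
    exact good_of_bot P (commutator_R_eq_bot hij hkl hil hjk)
  rcases c' with k | k <;> rcases e' with l | l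
  · exact good_side P true hij
  · exact hroot k l fun h => hne' (Or.inr ⟨by rw [h.1], by rw [h.2]⟩)
  · exact Good.swap_right P (hroot l k fun h => hne' (Or.inl ⟨by rw [h.2], by rw [h.1]⟩))
  · exact good_side P false hij

end Cfsg.Agent.CurtisTitsD
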