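import Cfsg.Agent.Lib.SteinbergSL.Chain
import Cfsg.Agent.Lib.CurtisTitsD.Bruhat

/-!
Two homomorphisms from `SL_n` agreeing off one index: the subgroups of the roots of the form a sum of two
indices, and their behaviour under the monomial elements.
-/

set_option autoImplicit false
set_option linter.unusedSectionVars false

namespace Cfsg.Agent.CurtisTitsD

open Matrix Cfsg.Agent.SimpleFacts.SLnRootLifts Cfsg.Agent.SimpleFacts.SLnSystem
  Cfsg.Agent.SimpleFacts.SLnCosets Cfsg.Agent.SteinbergSL Cfsg.Agent.CurtisTitsD.Bruhat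
open scoped commutatorElement

variable {n : ℕ} {F : Type*} [Field F] [Finite F] {K : Type*} [Group K]

local notation "SLn" => SpecialLinearGroup (Fin n) F

/-- The root subgroup of a homomorphism. -/
def R (f : SLn →* K) (i j : Fin n) : Subgroup K := Subgroup.closure (Set.range fun t : F => f (T i j t))

theorem mem_R_of (f : SLn →* K) (i j : Fin n) (t : F) : f (T i j t) ∈ R f i j :=
  Subgroup.subset_closure ⟨t, rfl⟩

theorem mem_R {f : SLn →* K} {i j : Fin n} {x : K} (hx : x ∈ R f i j) : ∃ t, x = f (T i j t) := by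
  induction hx using Subgroup.closure_induction with
  | mem x hx => obtain ⟨t, rfl⟩ := hx; exact ⟨t, rfl⟩
  | one => exact ⟨0, by rw [T_zero, map_one]⟩
  | mul x y _ _ hx hy =>
    obtain ⟨t, rfl⟩ := hx
    obtain ⟨u, rfl⟩ := hy
    by_cases h : i = j
    · exact ⟨0, by simp [T, h]⟩
    · exact ⟨t + u, by rw [T_add h, map_mul]⟩
  | inv x _ hx =>
    obtain ⟨t, rfl⟩ := hx
    by_cases h : i = j
    · exact ⟨0, by simp [T, h]⟩
    · exact ⟨-t, inv_eq_of_mul_eq_one_right (by rw [← map_mul, ← T_add h, add_neg_cancel, T_zero, map_one])⟩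

theorem R_self (f : SLn →* K) (i : Fin n) : R f i i = ⊥ :=
  (Subgroup.closure_eq_bot_iff).2 (by rintro _ ⟨t, rfl⟩; simp [T])

theorem R_congr {f g : SLn →* K} {i j : Fin n} (h : ∀ t, f (T i j t) = g (T i j t)) :
    R f i j = R g i j := by
  rw [R, R]
  congr 1
  ext x
  simp [h]

theorem commutator_R_le {f : SLn →* K} {i j k : Fin n} (hij : i ≠ j) (hjk : j ≠ k) (hik : i ≠ k) :
    ⁅R f i j, R f j k⁆ = R f i k := by
  refine le_antisymm (Subgroup.commutator_le.2 fun x hx y hy => ?_) ((Subgroup.closure_le _).2 ?_)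
  · obtain ⟨t, rfl⟩ := mem_R hx
    obtain ⟨u, rfl⟩ := mem_R hy
    rw [← map_commutatorElement, T_bracket hik hij hjk]
    exact mem_R_of _ _ _ _
  · rintro _ ⟨t, rfl⟩
    show f (T i k t) ∈ ⁅R f i j, R f j k⁆
    rw [← mul_one t, ← T_bracket hik hij hjk, map_commutatorElement]
    exact Subgroup.commutator_mem_commutator (mem_R_of _ _ _ _) (mem_R_of _ _ _ _)

theorem commutator_R_eq_bot {f : SLn →* K} {i j k l : Fin n} (hij : i ≠ j) (hkl : k ≠ l) (hil : i ≠ l)
    (hjk : j ≠ k) : ⁅R f i j, R f k l⁆ = ⊥ := by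
  rw [← le_bot_iff]
  refine Subgroup.commutator_le.2 fun x hx y hy => ?_
  obtain ⟨t, rfl⟩ := mem_R hx
  obtain ⟨u, rfl⟩ := mem_R hy
  rw [Subgroup.mem_bot, commutatorElement_eq_one_iff_mul_comm, ← map_mul, ← map_mul,
    T_comm hij hkl hil hjk]

/-- Monomial elements permute root subgroups. -/
theorem cj_R {f : SLn →* K} {g : SLn} {π : Equiv.Perm (Fin n)} {e : Fin n → F}
    (hg : IsMonomial g π e) (i j : Fin n) : cj (f g) (R f i j) = R f (π i) (π j) := by
  by_cases h : i = j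
  · subst h
    rw [R_self, R_self, cj, Subgroup.map_bot]
  have key : ∀ t, f g * f (T i j t) * (f g)⁻¹ = f (T (π i) (π j) (e i / e j * t)) := fun t => by
    rw [← map_inv, ← map_mul, ← map_mul, hg.conj h]
  refine le_antisymm ?_ fun x hx => ?_
  · rintro _ ⟨x, hx, rfl⟩
    obtain ⟨t, rfl⟩ := mem_R hx
    show f g * f (T i j t) * (f g)⁻¹ ∈ _
    rw [key]
    exact mem_R_of _ _ _ _
  · obtain ⟨t, rfl⟩ := mem_R hx
    have := conj_mem_cj (f g) (mem_R_of f i j (e j / e i * t))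
    rwa [key, show e i / e j * (e j / e i * t) = t by field_simp [hg.1 i, hg.1 j]] at this

/-- The root subgroup with the orientation `o`. -/
def RO (o : Bool) (f : SLn →* K) (i j : Fin n) : Subgroup K := bif o then R f i j else R f j i

theorem cj_RO (o : Bool) {f : SLn →* K} {g : SLn} {π : Equiv.Perm (Fin n)} {e : Fin n → F}
    (hg : IsMonomial g π e) (i j : Fin n) : cj (f g) (RO o f i j) = RO o f (π i) (π j) := by
  cases o <;> exact cj_R hg _ _

theorem commutator_RO (o : Bool) {f : SLn →* K} {i j k : Fin n} (hij : i ≠ j) (hjk : j ≠ k)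
    (hik : i ≠ k) : ⁅RO o f i j, RO o f j k⁆ = RO o f i k := by
  cases o
  · show ⁅R f j i, R f k j⁆ = R f k i
    rw [Subgroup.commutator_comm]
    exact commutator_R_le hjk.symm hij.symm hik.symm
  · exact commutator_R_le hij hjk hik

/-! ### Weyl words -/

/-- The Weyl word. -/
def wS (x y : Fin n) (t : F) : SLn := T x y t * T y x (-t⁻¹) * T x y t

theorem wS_monomial {x y : Fin n} (h : x ≠ y) {t : F} (ht : t ≠ 0) :
    IsMonomial (wS x y t) (Equiv.swap x y) fun k => if k = y then t else if k = x then -t⁻¹ else 1 :=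
  w_monomial (Chain.idSystem (F := F) (N := n)) h ht

theorem wS_inv {x y : Fin n} (h : x ≠ y) (t : F) : (wS x y t)⁻¹ = wS x y (-t) := by
  have e : ∀ {i j : Fin n}, i ≠ j → ∀ a : F, (T i j a)⁻¹ = T i j (-a) := fun hij a =>
    inv_eq_of_mul_eq_one_right (by rw [← T_add hij, add_neg_cancel, T_zero])
  simp only [wS, _root_.mul_inv_rev, e h, e h.symm, inv_neg, neg_neg, mul_assoc]

theorem monomial_ext {g g' : SLn} {π : Equiv.Perm (Fin n)} {e e' : Fin n → F}
    (h : IsMonomial g π e) (h' : IsMonomial g' π e') (he : ∀ k, e k = e' k) : g = g' :=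
  Subtype.ext (Matrix.ext fun i j => by rw [h.2, h'.2, he])

theorem wS_symm {x y : Fin n} (h : x ≠ y) {t : F} (ht : t ≠ 0) : wS y x t = wS x y (-t⁻¹) := by
  have h1 := wS_monomial h.symm ht
  rw [Equiv.swap_comm] at h1
  refine monomial_ext h1 (wS_monomial h (neg_ne_zero.2 (inv_ne_zero ht))) fun k => ?_
  simp only [inv_neg, inv_inv, neg_neg]
  by_cases k1 : k = x
  · subst k1; simp [h]
  · simp [k1]

theorem wS_conj {g : SLn} {π : Equiv.Perm (Fin n)} {e : Fin n → F} (hg : IsMonomial g π e)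
    {x y : Fin n} (h : x ≠ y) (t : F) :
    g * wS x y t * g⁻¹ = wS (π x) (π y) (e x / e y * t) := by
  rw [wS, show g * (T x y t * T y x (-t⁻¹) * T x y t) * g⁻¹ =
    (g * T x y t * g⁻¹) * (g * T y x (-t⁻¹) * g⁻¹) * (g * T x y t * g⁻¹) by group,
    hg.conj h, hg.conj h.symm, wS]
  congr 3
  rw [mul_inv, inv_div, mul_neg]

/-- Exchange of two Weyl words. -/
theorem wS_swap {x y a b : Fin n} (hxy : x ≠ y) (hab : a ≠ b) {t u : F} (ht : t ≠ 0) (hu : u ≠ 0) :
    ∃ c, c ≠ 0 ∧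
      wS x y t * wS a b u = wS (Equiv.swap x y a) (Equiv.swap x y b) c * wS x y t := by
  have hm := wS_monomial hxy ht
  refine ⟨_, mul_ne_zero (div_ne_zero (hm.1 a) (hm.1 b)) hu, ?_⟩
  rw [← wS_conj hm hab u, inv_mul_cancel_right]

/-- The two homomorphisms. -/
structure Twin (n : ℕ) (F : Type*) [Field F] (K : Type*) [Group K] where
  F1 : SpecialLinearGroup (Fin n) F →* K
  F2 : SpecialLinearGroup (Fin n) F →* K
  d : Fin n
  c : Fin n
  hcd : c ≠ d
  top : ∀ i j, i ≠ d → j ≠ d → ∀ t, F1 (T i j t) = F2 (T i j t)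
  mid : ∀ t u, Commute (F1 (T c d t)) (F2 (T c d u)) ∧ Commute (F1 (T c d t)) (F2 (T d c u)) ∧
    Commute (F1 (T d c t)) (F2 (T c d u)) ∧ Commute (F1 (T d c t)) (F2 (T d c u))

variable (P : Twin n F K)

/-- The same with the two homomorphisms exchanged. -/
def Twin.op : Twin n F K where
  F1 := P.F2
  F2 := P.F1
  d := P.d
  c := P.c
  hcd := P.hcd
  top i j hi hj t := (P.top i j hi hj t).symm
  mid t u :=
    ⟨(P.mid u t).1.symm, (P.mid u t).2.2.1.symm, (P.mid u t).2.1.symm, (P.mid u t).2.2.2.symm⟩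

theorem R_top {i j : Fin n} (hi : i ≠ P.d) (hj : j ≠ P.d) : R P.F1 i j = R P.F2 i j :=
  R_congr (P.top i j hi hj)

theorem RO_top (o : Bool) {i j : Fin n} (hi : i ≠ P.d) (hj : j ≠ P.d) :
    RO o P.F1 i j = RO o P.F2 i j := by
  cases o
  · exact R_top P hj hi
  · exact R_top P hi hj

theorem wS_top {x y : Fin n} (hx : x ≠ P.d) (hy : y ≠ P.d) (t : F) :
    P.F1 (wS x y t) = P.F2 (wS x y t) := by
  simp only [wS, map_mul, P.top x y hx hy, P.top y x hy hx]

/-- The seed. -/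
def S (o : Bool) (i : Fin n) : Subgroup K := RO o P.F2 i P.d

/-- Words away from `d` move the seeds. -/
theorem cj_S_top (o : Bool) {x y : Fin n} (hxy : x ≠ y) (hx : x ≠ P.d) (hy : y ≠ P.d) {t : F} (ht : t ≠ 0)
    (i : Fin n) : cj (P.F1 (wS x y t)) (S P o i) = S P o (Equiv.swap x y i) := by
  rw [wS_top P hx hy, S, cj_RO o (wS_monomial hxy ht), Equiv.swap_apply_of_ne_of_ne hx.symm hy.symm]
  rfl

theorem cj_S_mid (o : Bool) {t : F} (ht : t ≠ 0) :
    cj (P.F1 (wS P.c P.d t)) (S P o P.c) = S P o P.c := by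
  have hcen : ∀ x ∈ S P o P.c, Commute (P.F1 (wS P.c P.d t)) x := by
    intro x hx
    simp only [wS, map_mul]
    cases o
    · obtain ⟨u, rfl⟩ := mem_R (i := P.d) (j := P.c) hx
      exact (((P.mid t u).2.1).mul_left (P.mid _ u).2.2.2).mul_left (P.mid t u).2.1
    · obtain ⟨u, rfl⟩ := mem_R (i := P.c) (j := P.d) hx
      exact (((P.mid t u).1).mul_left (P.mid _ u).2.2.1).mul_left (P.mid t u).1
  ext x
  rw [mem_cj]
  constructor
  · intro hx
    have e := (hcen _ hx).eq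
    rw [show P.F1 (wS P.c P.d t) * ((P.F1 (wS P.c P.d t))⁻¹ * x * P.F1 (wS P.c P.d t)) =
      x * P.F1 (wS P.c P.d t) by group] at e
    rwa [mul_right_cancel e]
  · intro hx
    rwa [mul_assoc, ← (hcen x hx).eq, inv_mul_cancel_left]

/-- The word of `i, d` fixes the seed at `i`. -/
theorem cj_S_self (o : Bool) {i : Fin n} (hi : i ≠ P.d) {t : F} (ht : t ≠ 0) :
    cj (P.F1 (wS i P.d t)) (S P o i) = S P o i := by
  by_cases hic : i = P.c
  · subst hic; exact cj_S_mid P o ht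
  have hm := wS_monomial hic (one_ne_zero (α := F))
  obtain ⟨c, hc, he⟩ := wS_swap hic hi (one_ne_zero (α := F)) ht
  rw [Equiv.swap_apply_left, Equiv.swap_apply_of_ne_of_ne hi.symm P.hcd.symm] at he
  have e : wS i P.d t = (wS i P.c 1)⁻¹ * wS P.c P.d c * wS i P.c 1 := by
    rw [mul_assoc, ← he, inv_mul_cancel_left]
  have hs := cj_S_top P o hic hi P.hcd (one_ne_zero (α := F)) i
  rw [Equiv.swap_apply_left] at hs
  rw [e, map_mul, map_mul, map_inv, cj_mul, hs, cj_mul, cj_S_mid P o hc, cj_inv hs]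

theorem cj_S_self' (o : Bool) {i : Fin n} (hi : i ≠ P.d) {t : F} (ht : t ≠ 0) :
    cj (P.F1 (wS P.d i t)) (S P o i) = S P o i := by
  rw [wS_symm hi ht]
  exact cj_S_self P o hi (neg_ne_zero.2 (inv_ne_zero ht))

/-- The root subgroup of two indices other than `d`. -/
def Z (o : Bool) (i j : Fin n) : Subgroup K := cj (P.F1 (wS j P.d 1)) (S P o i)

theorem cj_S_other (o : Bool) {i j : Fin n} (hij : i ≠ j) (hi : i ≠ P.d) (hj : j ≠ P.d) {u : F}
    (hu : u ≠ 0) : cj (P.F1 (wS j P.d u)) (S P o i) = Z P o i j := by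
  obtain ⟨h, hh⟩ : ∃ h, h = wS j i u * wS j i (-1 : F) := ⟨_, rfl⟩
  have hm1 : (-1 : F) ≠ 0 := neg_ne_zero.2 one_ne_zero
  have hfix : cj (P.F1 h) (S P o i) = S P o i := by
    rw [hh, map_mul, cj_mul, cj_S_top P o hij.symm hj hi hm1, cj_S_top P o hij.symm hj hi hu,
      Equiv.swap_apply_right, Equiv.swap_apply_left]
  have hmono : IsMonomial h 1 (fun k => if k = j then u else if k = i then u⁻¹ else 1) := by
    rw [hh]
    exact h_monomial (Chain.idSystem (F := F) (N := n)) hij.symm hu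
  have e : wS j P.d u = h * wS j P.d 1 * h⁻¹ := by
    rw [wS_conj hmono hj]
    simp [hj.symm, hi.symm]
  obtain ⟨c1, hc1, he1⟩ := wS_swap hj (Ne.symm hij) (t := (-1 : F)) hm1 hu
  obtain ⟨c2, hc2, he2⟩ := wS_swap hj (Ne.symm hij) (t := (-1 : F)) hm1 hm1
  rw [Equiv.swap_apply_left, Equiv.swap_apply_of_ne_of_ne hij hi] at he1 he2
  have e2 : h * wS j P.d 1 = wS j P.d 1 * (wS P.d i c1 * wS P.d i c2) := by
    have hinv : (wS j P.d (1 : F))⁻¹ = wS j P.d (-1) := wS_inv hj 1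
    rw [← hinv] at he1 he2
    have e1 : wS j P.d 1 * wS P.d i c1 = wS j i u * wS j P.d 1 := by
      rw [eq_mul_inv_iff_mul_eq.2 he1.symm]; group
    have e2 : wS j P.d 1 * wS P.d i c2 = wS j i (-1) * wS j P.d 1 := by
      rw [eq_mul_inv_iff_mul_eq.2 he2.symm]; group
    rw [← mul_assoc, e1, mul_assoc, e2, hh, mul_assoc]
  rw [e, map_mul, map_inv, cj_mul, cj_inv hfix, e2, map_mul, map_mul, cj_mul, cj_mul,
    cj_S_self' P o hi hc2, cj_S_self' P o hi hc1]
  rfl

theorem Z_symm (o : Bool) {i j : Fin n} (hij : i ≠ j) (hi : i ≠ P.d) (hj : j ≠ P.d) :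
    Z P o i j = Z P o j i := by
  have h1 : (1 : F) ≠ 0 := one_ne_zero
  obtain ⟨c, hc, he⟩ := wS_swap hij hj (t := (1 : F)) h1 h1
  rw [Equiv.swap_apply_right, Equiv.swap_apply_of_ne_of_ne hi.symm hj.symm] at he
  obtain ⟨c', hc', he'⟩ := wS_swap hj hij (t := (-1 : F)) (neg_ne_zero.2 h1) h1
  rw [Equiv.swap_apply_of_ne_of_ne hij hi, Equiv.swap_apply_left] at he'
  have hfix : cj (P.F1 (wS i j 1)) (Z P o i j) = Z P o i j := by
    have e' : wS i j 1 * wS j P.d 1 = wS j P.d 1 * wS i P.d c' := by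
      rw [← wS_inv hj 1] at he'
      rw [eq_mul_inv_iff_mul_eq.2 he'.symm]; group
    rw [Z, ← cj_mul, ← map_mul, e', map_mul, cj_mul, cj_S_self P o hi hc']
  have hs := cj_S_top P o hij hi hj h1 i
  rw [Equiv.swap_apply_left] at hs
  conv_rhs => rw [← cj_S_other P o hij.symm hj hi hc, ← hs, ← cj_mul, ← map_mul, ← he, map_mul, cj_mul]
  exact hfix.symm

/-- The root subgroups of a sum of two indices, totalised. -/
def Zf (o : Bool) (a b : Fin n) : Subgroup K :=
  if a = b then ⊥ else if b = P.d then S P o a else if a = P.d then S P o b else Z P o a b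

theorem Zf_d (o : Bool) {i : Fin n} (hi : i ≠ P.d) : Zf P o i P.d = S P o i := by simp [Zf, hi]

theorem Zf_self (o : Bool) (i : Fin n) : Zf P o i i = ⊥ := if_pos rfl

theorem Zf_ne (o : Bool) {i j : Fin n} (hij : i ≠ j) (hi : i ≠ P.d) (hj : j ≠ P.d) :
    Zf P o i j = Z P o i j := by simp [Zf, hij, hi, hj]

theorem Zf_symm (o : Bool) (a b : Fin n) : Zf P o a b = Zf P o b a := by
  by_cases hab : a = b
  · rw [hab]
  by_cases hb : b = P.d
  · subst hb; simp [Zf, hab, Ne.symm hab]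
  by_cases ha : a = P.d
  · subst ha; simp [Zf, hab, Ne.symm hab]
  rw [Zf_ne P o hab ha hb, Zf_ne P o (Ne.symm hab) hb ha, Z_symm P o hab ha hb]

/-- Words containing `d` on the seeds. -/
theorem cj_Zf_d (o : Bool) {i j : Fin n} (hi : i ≠ P.d) (hj : j ≠ P.d) {t : F} (ht : t ≠ 0) :
    cj (P.F1 (wS j P.d t)) (Zf P o i P.d) =
      Zf P o (Equiv.swap j P.d i) (Equiv.swap j P.d P.d) := by
  rw [Zf_d P o hi]
  by_cases hij : i = j
  · subst hij
    rw [Equiv.swap_apply_left, Equiv.swap_apply_right, cj_S_self P o hi ht, Zf_symm, Zf_d P o hi]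
  · rw [Equiv.swap_apply_of_ne_of_ne hij hi, Equiv.swap_apply_right, Zf_ne P o hij hi hj,
      cj_S_other P o hij hi hj ht]

/-- The monomial elements permute the root subgroups. -/
theorem cj_Zf (o : Bool) {x y : Fin n} (hxy : x ≠ y) {t : F} (ht : t ≠ 0) (a b : Fin n) :
    cj (P.F1 (wS x y t)) (Zf P o a b) = Zf P o (Equiv.swap x y a) (Equiv.swap x y b) := by
  have htop : ∀ {x y : Fin n}, x ≠ y → x ≠ P.d → y ≠ P.d → ∀ {t : F}, t ≠ 0 → ∀ a b,
      cj (P.F1 (wS x y t)) (Zf P o a b) = Zf P o (Equiv.swap x y a) (Equiv.swap x y b) := by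
    intro x y hxy hx hy t ht a b
    obtain ⟨σ, hσ⟩ : ∃ σ, σ = Equiv.swap x y := ⟨_, rfl⟩
    have hσd : σ P.d = P.d := by rw [hσ, Equiv.swap_apply_of_ne_of_ne hx.symm hy.symm]
    have hσne : ∀ {k}, k ≠ P.d → σ k ≠ P.d := fun h e => h (σ.injective (e.trans hσd.symm))
    rw [← hσ]
    by_cases hab : a = b
    · subst hab; rw [Zf_self, Zf_self, cj, Subgroup.map_bot]
    have hd : ∀ k, k ≠ P.d → cj (P.F1 (wS x y t)) (Zf P o k P.d) = Zf P o (σ k) P.d := fun k hk => by
      rw [Zf_d P o hk, cj_S_top P o hxy hx hy ht, ← hσ, Zf_d P o (hσne hk)]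
    by_cases hb : b = P.d
    · subst hb; rw [hd a hab, hσd]
    by_cases ha : a = P.d
    · subst ha; rw [Zf_symm, hd b hb, hσd, Zf_symm]
    rw [Zf_ne P o hab ha hb, Z, ← cj_mul, ← map_mul]
    obtain ⟨c, hc, he⟩ := wS_swap hxy hb ht (one_ne_zero (α := F))
    rw [he, map_mul, cj_mul, cj_S_top P o hxy hx hy ht, ← hσ, hσd,
      cj_S_other P o (σ.injective.ne hab) (hσne ha) (hσne hb) hc,
      Zf_ne P o (σ.injective.ne hab) (hσne ha) (hσne hb)]
  have hmid : ∀ {j : Fin n}, j ≠ P.d → ∀ {t : F}, t ≠ 0 → ∀ a b,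
      cj (P.F1 (wS j P.d t)) (Zf P o a b) = Zf P o (Equiv.swap j P.d a) (Equiv.swap j P.d b) := by
    intro j hj t ht a b
    by_cases hab : a = b
    · subst hab; rw [Zf_self, Zf_self, cj, Subgroup.map_bot]
    by_cases hb : b = P.d
    · subst hb; exact cj_Zf_d P o hab hj ht
    by_cases ha : a = P.d
    · subst ha; rw [Zf_symm, cj_Zf_d P o hb hj ht, Zf_symm]
    have hback : ∀ k, k ≠ j → k ≠ P.d →
        cj (P.F1 (wS j P.d t)) (Zf P o k j) = Zf P o k P.d := by
      intro k hkj hk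
      have e := cj_Zf_d P o hk hj (neg_ne_zero.2 ht)
      rw [Equiv.swap_apply_of_ne_of_ne hkj hk, Equiv.swap_apply_right] at e
      have := cj_inv e
      rwa [← map_inv, wS_inv hj, neg_neg] at this
    by_cases hbj : b = j
    · subst hbj
      rw [Equiv.swap_apply_of_ne_of_ne hab ha, Equiv.swap_apply_left, hback a hab ha]
    by_cases haj : a = j
    · subst haj
      rw [Equiv.swap_apply_of_ne_of_ne hbj hb, Equiv.swap_apply_left, Zf_symm, hback b hbj hb, Zf_symm]
    rw [Equiv.swap_apply_of_ne_of_ne haj ha, Equiv.swap_apply_of_ne_of_ne hbj hb, Zf_ne P o hab ha hb, Z,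
      ← cj_mul, ← map_mul]
    obtain ⟨c, hc, he⟩ := wS_swap hj hb ht (one_ne_zero (α := F))
    rw [Equiv.swap_apply_of_ne_of_ne hbj hb, Equiv.swap_apply_right] at he
    rw [he, map_mul, cj_mul, cj_S_other P o haj ha hj ht, ← Zf_ne P o haj ha hj,
      htop hbj hb hj hc, Equiv.swap_apply_of_ne_of_ne hab haj, Equiv.swap_apply_right,
      Zf_ne P o hab ha hb]
    rfl
  by_cases hy : y = P.d
  · subst hy; exact hmid hxy ht a b
  by_cases hx : x = P.d
  · subst hx
    rw [wS_symm hy ht, Equiv.swap_comm]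
    exact hmid hy (neg_ne_zero.2 (inv_ne_zero ht)) a b
  exact htop hxy hx hy ht a b

end Cfsg.Agent.CurtisTitsD
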